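import Groth.Agent.RegTilde.LinRes
import Groth.Agent.SerrePn.Basic
import Groth.Agent.SerrePn.ClosedTwist
import Groth.Agent.CurveRR.Zero

/-!
Two-step presentations of regular modules on projective space with controlled numbers of generators,
and spanning sets of morphisms.
-/

set_option autoImplicit false
set_option linter.unusedSectionVars false
set_option linter.style.haveILetI false
set_option backward.isDefEq.respectTransparency false

universe u

open CategoryTheory CategoryTheory.Limits AlgebraicGeometry TopologicalSpace Opposite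
open Groth.Agent.QC (res resO res_res res_smul app_res)
open Groth.Agent.RegKos Groth.Agent.Mumford Groth.Agent.LinRes

noncomputable section

namespace Groth.Agent.PicBdd

attribute [local instance] Abelian.hasFiniteBiproducts

section Scalar

variable {X : Scheme.{u}}

/-- Multiplication by a global function. -/
def scal (a : Γ(X, ⊤)) (M : X.Modules) : M ⟶ M :=
  ⟨PresheafOfModules.homMk
      { app := fun U => M.smul (X.presheaf.map (homOfLE (le_top : U.unop ≤ ⊤)).op a)
        naturality := fun {U V} f => by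
          refine Eq.trans ?_ (Scheme.Modules.map_comp_smul (M := M) f.unop _).symm
          congr 2
          rw [← ConcreteCategory.comp_apply, ← Functor.map_comp]
          rfl }
      (fun U r m => by
        show (X.presheaf.map (homOfLE (le_top : U.unop ≤ ⊤)).op a : Γ(X, U.unop)) • ((r : Γ(X, U.unop)) • (m : Γ(M, U.unop))) =
          (r : Γ(X, U.unop)) • ((X.presheaf.map (homOfLE (le_top : U.unop ≤ ⊤)).op a : Γ(X, U.unop)) • (m : Γ(M, U.unop)))
        rw [smul_smul, smul_smul, mul_comm])⟩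

theorem scal_app (a : Γ(X, ⊤)) (M : X.Modules) (U : X.Opens) (m : Γ(M, U)) :
    (scal a M).app U m = resO X (le_top : U ≤ ⊤) a • m := rfl

theorem scal_comp {M N : X.Modules} (a : Γ(X, ⊤)) (φ : M ⟶ N) : scal a M ≫ φ = φ ≫ scal a N := by
  refine Scheme.Modules.hom_ext _ _ fun U => ?_
  ext m
  exact TMul.app_smul φ _ m

theorem smul_eq_scal {A : Type u} [CommRing A] [X.Over (Spec (CommRingCat.of A))] {M N : X.Modules}
    (a : A) (f : M ⟶ N) :
    a • f = f ≫ scal (show Γ(X, ⊤) from Coh.toGlobal (X ↘ Spec (CommRingCat.of A)) a) N := by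
  refine Scheme.Modules.hom_ext _ _ fun U => ?_
  ext m
  exact KLin.smul_app_apply _ _ _ _

/-- Pullback commutes with multiplication by functions. -/
theorem pullback_map_scal {Y : Scheme.{u}} (f : Y ⟶ X) (a : Γ(X, ⊤)) (M : X.Modules) :
    (Scheme.Modules.pullback f).map (scal a M) = scal (f.appTop a) ((Scheme.Modules.pullback f).obj M) := by
  apply ((Scheme.Modules.pullbackPushforwardAdjunction f).homEquiv _ _).injective
  rw [Adjunction.homEquiv_unit, Adjunction.homEquiv_unit, Adjunction.unit_naturality, scal_comp]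
  congr 1
  refine Scheme.Modules.hom_ext _ _ fun U => ?_
  ext m
  show resO X (le_top : U ≤ ⊤) a • m = (scal (f.appTop a) _).app (f ⁻¹ᵁ U) m
  rw [scal_app]
  show (f.app U (resO X (le_top : U ≤ ⊤) a)) • (show Γ((Scheme.Modules.pullback f).obj M, f ⁻¹ᵁ U) from m) = _
  congr 1
  exact congrArg (fun g => g a) (f.naturality (homOfLE (le_top : U ≤ ⊤)).op)

end Scalar

variable {k : Type u} [Field k] {n : ℕ}

/-- Global sections are spanned over the field by as many sections as their dimension. -/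
theorem exists_span_fin (G : (CohB1.ProjSpace n k).Modules) (hG : Coh.IsCoh G) :
    ∃ g : Fin (CurveRR.h k G 0) → Γ(G, ⊤), ∀ z : Γ(G, ⊤), ∃ a : Fin (CurveRR.h k G 0) → k,
      z = ∑ j, (show Γ(CohB1.ProjSpace n k, ⊤) from Coh.toGlobal (CohB1.ProjSpace.toSpec n k) (a j)) • g j := by
  obtain ⟨e, he⟩ := CohFinite.exists_zero_equiv k G
  haveI : Module.Finite k (Coh.HH (CohB1.ProjSpace n k) G 0) := CohFinite.finite_projSpace n k G hG 0
  let B := Module.finBasis k (Coh.HH (CohB1.ProjSpace n k) G 0)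
  refine ⟨fun j => e (B j), fun z => ⟨fun j => B.repr (e.symm z) j, ?_⟩⟩
  conv_lhs => rw [← e.apply_symm_apply z, ← B.sum_repr (e.symm z)]
  rw [map_sum]
  exact Finset.sum_congr rfl fun j _ => he _ _

/-- An `m`-regular module is generated in degree `m` by `h⁰(F(m))` sections, with regular kernel. -/
theorem exists_of_reg (F : (CohB1.ProjSpace n k).Modules) (hF : Coh.IsCoh F) (m : ℤ)
    (hreg : Curv2.IsMRegular k n F m) :
    ∃ (φ : (∐ fun _ : Fin (CurveRR.h k (CohB1.tensorMod F (Twist.twistProjSpace n k m)) 0) =>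
        Twist.twistProjSpace n k (-m)) ⟶ F),
        Epi φ ∧ Curv2.IsMRegular k n (kernel φ) (m + 1) := by
  let L' := Twist.twistProjSpace n k m
  have hL' : PicF.IsInvertible L' := CohFinite.isInvertible_twist n k m
  obtain ⟨i⟩ := RegCx.twist_twist (k := k) (n := n) m (-m) 0 (by ring)
  obtain ⟨j₀⟩ := GrT.nonempty_twist_zero_iso (𝒜 := CohB1.polyGrading n k)
  let η : CohB1.tensorMod L' (Twist.twistProjSpace n k (-m)) ≅ Coh.structureModule _ := i ≪≫ j₀
  have hG : Coh.IsCoh (CohB1.tensorMod F L') := CohFinite.isCoh_tensor hF hL'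
  have hG0 : Curv2.IsMRegular k n (CohB1.tensorMod F L') 0 := by
    have := regular_twist hreg m
    rwa [sub_self] at this
  obtain ⟨g, hg⟩ := exists_span_fin _ hG
  let φ : (∐ fun _ : Fin (CurveRR.h k (CohB1.tensorMod F L') 0) => Twist.twistProjSpace n k (-m)) ⟶ F :=
    Sigma.desc fun j => secHom η (g j)
  have hsurj : ∀ z, ∃ w, (CohFinite.tmap φ L').app ⊤ w = z := by
    intro z
    obtain ⟨a, rfl⟩ := hg z
    refine ⟨∑ j, (show Γ(CohB1.ProjSpace n k, ⊤) from Coh.toGlobal (CohB1.ProjSpace.toSpec n k) (a j)) •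
      (CohFinite.tmap (Sigma.ι (fun _ : Fin (CurveRR.h k (CohB1.tensorMod F L') 0) => Twist.twistProjSpace n k (-m)) j)
        L').app ⊤ (gen₀ η), ?_⟩
    rw [map_sum]
    refine Finset.sum_congr rfl fun j _ => ?_
    rw [TMul.app_smul]
    exact congrArg _ (app_gen η hL' g j)
  have hepi : Epi φ := by
    refine Abelian.epi_of_cokernel_π_eq_zero φ (eq_zero_of_tmap hL' _ ?_)
    refine hom_eq_zero _ hG hG0 _ fun z => ?_
    obtain ⟨w, rfl⟩ := hsurj z
    refine (congrArg (ev w) (CohFinite.tmap_comp φ (cokernel.π φ) L').symm).trans ?_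
    rw [cokernel.condition, CohFinite.tmap_zero]
    rfl
  refine ⟨φ, hepi, fun q hq hqn => ?_⟩
  obtain ⟨q, rfl⟩ : ∃ p, q = p + 1 := ⟨q - 1, by omega⟩
  have hS : (ShortComplex.mk (kernel.ι φ) φ (kernel.condition φ)).ShortExact :=
    { exact := ShortComplex.exact_of_f_is_kernel _ (kernelIsKernel φ) }
  rw [show m + 1 - ((q + 1 : ℕ) : ℤ) = m - q by push_cast; ring]
  refine hh_left (CohFinite.shortExact_tmap (CohFinite.isInvertible_twist n k (m - q)) hS) q ?_ ?_
  · rcases q with _ | q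
    · refine h0_surj _ ?_
      have key : ∀ (c : ℤ), c = m → ∀ z, ∃ w,
          (CohFinite.tmap φ (Twist.twistProjSpace n k c)).app ⊤ w = z := by
        rintro _ rfl; exact hsurj
      exact key _ (by simp)
    · intro y
      haveI := hreg (q + 1) (by omega) (by omega)
      exact ⟨0, Subsingleton.elim _ _⟩
  · obtain ⟨i'⟩ := RegCx.twist_twist (k := k) (n := n) (-m) (m - q) (-(q : ℤ)) (by ring)
    exact hh_coprod _ _ _ (CohQC.hh_subsingleton_of_iso i'.symm _
      (ProjCech.twist_vanish n _ (q + 1) (by omega) (by omega)))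

/-- Morphisms out of an invertible module into a coherent one are spanned by finitely many. -/
theorem exists_hom_span {L L' : (CohB1.ProjSpace n k).Modules} (hL' : PicF.IsInvertible L')
    (η : CohB1.tensorMod L' L ≅ Coh.structureModule (CohB1.ProjSpace n k)) {G : (CohB1.ProjSpace n k).Modules}
    (hG : Coh.IsCoh G) :
    ∃ (N : ℕ) (h : Fin N → (L ⟶ G)), ∀ f : L ⟶ G, ∃ a : Fin N → k, f = ∑ j, a j • h j := by
  obtain ⟨g, hg⟩ := exists_span_fin (CohB1.tensorMod G L') (CohFinite.isCoh_tensor hG hL')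
  refine ⟨_, fun j => secHom η (g j), fun f => ?_⟩
  obtain ⟨a, ha⟩ := hg ((CohFinite.tmap f L').app ⊤ (gen₀ η))
  refine ⟨a, sub_eq_zero.1 (eq_zero_of_tmap hL' _ (eq_zero_of_gen (TMul.commIso L L' ≪≫ η) _ ?_))⟩
  show (CohFinite.tmap (f - _) L').app ⊤ (gen₀ η) = 0
  rw [show ∀ u v : L ⟶ G, CohFinite.tmap (u - v) L' = CohFinite.tmap u L' - CohFinite.tmap v L' from
    fun u v => eq_sub_of_add_eq (by rw [← CohFinite.tmap_add, sub_add_cancel]), CohFinite.tmap_sum]
  rw [Scheme.Modules.Hom.sub_app]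
  show (CohFinite.tmap f L').app ⊤ (gen₀ η) -
    (∑ j, CohFinite.tmap (a j • secHom η (g j)) L').app ⊤ (gen₀ η) = 0
  rw [sub_eq_zero, ha, show ∀ (φ : Fin _ → (CohB1.tensorMod L L' ⟶ CohB1.tensorMod G L')) ,
    (∑ j, φ j).app ⊤ (gen₀ η) = ∑ j, (φ j).app ⊤ (gen₀ η) from fun φ =>
      map_sum (AddMonoidHom.mk' (fun ψ : CohB1.tensorMod L L' ⟶ CohB1.tensorMod G L' => ψ.app ⊤ (gen₀ η))
        fun _ _ => rfl) φ _]
  refine Finset.sum_congr rfl fun j _ => ?_
  rw [SerrePn.tmap_smul, smul_eq_scal]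
  show _ = (scal _ _).app ⊤ ((CohFinite.tmap (secHom η (g j)) L').app ⊤ (gen₀ η))
  rw [tmap_secHom_gen η hL', scal_app, Groth.Agent.QC.resO_self]
  rfl

/-- Sections of a finite sum of copies. -/
theorem h0_coprod_le {b : ℕ} (L M : (CohB1.ProjSpace n k).Modules) (hLM : Coh.IsCoh (CohB1.tensorMod L M)) :
    CurveRR.h k (CohB1.tensorMod (∐ fun _ : Fin b => L) M) 0 ≤ b * CurveRR.h k (CohB1.tensorMod L M) 0 := by
  obtain ⟨π, hπ⟩ := exists_total (b := b) L
  haveI : Module.Finite k (Coh.HH (CohB1.ProjSpace n k) (CohB1.tensorMod L M) 0) :=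
    CohFinite.finite_projSpace n k _ hLM 0
  let Φ := LinearMap.pi fun j => CohFinite.hhMap k (CohFinite.tmap (π j) M) 0
  have hinj : Function.Injective Φ := by
    refine (injective_iff_map_eq_zero Φ).2 fun x hx => ?_
    have h := congrArg (fun φ => SerrePn.hhHom k _ _ 0 (CohFinite.tmap φ M) x) hπ
    simp only [CohFinite.tmap_id, SerrePn.hhHom_apply, CohFinite.hhMap_id] at h
    rw [← h, CohFinite.tmap_sum, ← SerrePn.hhHom_apply, map_sum, LinearMap.sum_apply]
    refine Finset.sum_eq_zero fun j _ => ?_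
    rw [CohFinite.tmap_comp, SerrePn.hhHom_apply, CohFinite.hhMap_comp,
      show CohFinite.hhMap k (CohFinite.tmap (π j) M) 0 x = 0 from congrFun hx j, map_zero]
  refine (LinearMap.finrank_le_finrank_of_injective hinj).trans_eq ?_
  rw [Module.finrank_pi_fintype, Finset.sum_const, Finset.card_univ, Fintype.card_fin, smul_eq_mul]

/-- Sections of a submodule. -/
theorem h0_le_of_mono {Y : Scheme.{u}} [Y.Over (Spec (CommRingCat.of k))] {A B : Y.Modules} (f : A ⟶ B) [Mono f]
    [Module.Finite k (Coh.HH Y B 0)] : CurveRR.h k A 0 ≤ CurveRR.h k B 0 := by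
  refine LinearMap.finrank_le_finrank_of_injective (f := CohFinite.hhMap k f 0) fun x y h => ?_
  apply (Sheaf.H.equiv₀ (Coh.toAb A) (isTerminalTop : IsTerminal (⊤ : Y.Opens))).injective
  apply Groth.Agent.QC.app_injective_of_mono f ⊤
  rw [← SerrePn.h0_natural k f x, ← SerrePn.h0_natural k f y, h]

theorem shortExact_ker {Y : Scheme.{u}} {P K : Y.Modules} (φ : P ⟶ K) [Epi φ] :
    (ShortComplex.mk (kernel.ι φ) φ (kernel.condition φ)).ShortExact :=
  { exact := ShortComplex.exact_of_f_is_kernel _ (kernelIsKernel φ) }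

theorem mono_tmap_ker {Y : Scheme.{u}} {P K M : Y.Modules} (φ : P ⟶ K) [Epi φ] (hM : PicF.IsInvertible M) :
    Mono (CohFinite.tmap (kernel.ι φ) M) :=
  (CohFinite.shortExact_tmap hM (shortExact_ker φ)).mono_f

/-- Sections of a submodule of a finite sum of copies. -/
theorem h0_mono_le {b : ℕ} {K L M : (CohB1.ProjSpace n k).Modules} (φ : (∐ fun _ : Fin b => L) ⟶ K) [Epi φ]
    (hM : PicF.IsInvertible M) (hL : Coh.IsCoh L) :
    CurveRR.h k (CohB1.tensorMod (kernel φ) M) 0 ≤ b * CurveRR.h k (CohB1.tensorMod L M) 0 := by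
  haveI : IsNoetherian (CohB1.ProjSpace n k) := CohFinite.isNoetherian_projSpace n k
  have hP : Coh.IsCoh (∐ fun _ : Fin b => L) :=
    CohFinite.isCoh_of_iso (biproduct.isoCoproduct fun _ : Fin b => L)
      (Devissage.isCoh_biproduct _ fun _ => hL)
  haveI := CohFinite.finite_projSpace n k _ (CohFinite.isCoh_tensor hP hM) 0
  refine le_trans ?_ (h0_coprod_le _ _ (CohFinite.isCoh_tensor hL hM))
  haveI := mono_tmap_ker φ hM
  exact h0_le_of_mono (CohFinite.tmap (kernel.ι φ) M)

/-- Adding generators. -/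
theorem exists_epi_pad {C c : ℕ} (hc : c ≤ C) {X : Scheme.{u}} {L K : X.Modules}
    (ψ : (∐ fun _ : Fin c => L) ⟶ K) [Epi ψ] : ∃ π : (∐ fun _ : Fin C => L) ⟶ K, Epi π := by
  refine ⟨Sigma.desc fun e : Fin C => if he : (e : ℕ) < c then Sigma.ι (fun _ : Fin c => L) ⟨e, he⟩ ≫ ψ else 0, ?_⟩
  refine @epi_of_epi_fac _ _ _ _ _ (Sigma.desc fun e : Fin c =>
    Sigma.ι (fun _ : Fin C => L) (Fin.castLE hc e)) _ ψ inferInstance (Sigma.hom_ext _ _ fun e => ?_)
  simp

/-- Cokernel of a map onto the kernel. -/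
theorem nonempty_cokernel_iso {X : Scheme.{u}} {Q P F : X.Modules} (φ : P ⟶ F) [Epi φ]
    (π : Q ⟶ kernel φ) [Epi π] : Nonempty (cokernel (π ≫ kernel.ι φ) ≅ F) :=
  ⟨cokernelEpiComp π (kernel.ι φ) ≪≫ (cokernelIsCokernel (kernel.ι φ)).coconePointUniqueUpToIso
    (Abelian.epiIsCokernelOfKernel (KernelFork.ofι (kernel.ι φ) (kernel.condition φ)) (kernelIsKernel φ))⟩

/-- Regular modules with bounded sections in the regular degree are quotients of a fixed module by
morphisms out of another. -/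
theorem exists_presentation (m : ℤ) (b : ℕ) :
    ∃ C : ℕ, ∀ F : (CohB1.ProjSpace n k).Modules, Coh.IsCoh F → Curv2.IsMRegular k n F m →
      (CurveRR.h k (CohB1.tensorMod F (Twist.twistProjSpace n k m)) 0 = b) →
      ∃ h : (∐ fun _ : Fin C => Twist.twistProjSpace n k (-(m + 1))) ⟶ ∐ fun _ : Fin b => Twist.twistProjSpace n k (-m),
        Nonempty (cokernel h ≅ F) := by
  haveI : IsNoetherian (CohB1.ProjSpace n k) := CohFinite.isNoetherian_projSpace n k
  refine ⟨b * CurveRR.h k (CohB1.tensorMod (Twist.twistProjSpace n k (-m))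
    (Twist.twistProjSpace n k (m + 1))) 0, fun F hF hreg hb => ?_⟩
  subst hb
  obtain ⟨φ, hφ, hK⟩ := exists_of_reg F hF m hreg
  haveI := hφ
  have hP : Coh.IsCoh (∐ fun _ : Fin (CurveRR.h k (CohB1.tensorMod F (Twist.twistProjSpace n k m)) 0) =>
      Twist.twistProjSpace n k (-m)) :=
    CohFinite.isCoh_of_iso (biproduct.isoCoproduct _)
      (Devissage.isCoh_biproduct _ fun _ => CohFinite.isCoh_twist n k (-m))
  have hKc : Coh.IsCoh (kernel φ) :=
    Groth.Agent.QC.isCoh_of_mono (kernel.ι φ) hP (Groth.Agent.QC.isQCoh_kernel hP.1 hF.1 φ)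
  obtain ⟨ψ, hψ, -⟩ := exists_of_reg (kernel φ) hKc (m + 1) hK
  haveI := hψ
  obtain ⟨π, hπ⟩ := exists_epi_pad (h0_mono_le φ (CohFinite.isInvertible_twist n k (m + 1))
    (CohFinite.isCoh_twist n k (-m))) ψ
  haveI := hπ
  exact ⟨π ≫ kernel.ι φ, nonempty_cokernel_iso φ π⟩

end Groth.Agent.PicBdd
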