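import Groth.Agent.PicBdd.InvLocus
import Groth.Agent.Nakai.AlgEquiv
import Groth.Agent.RedSepLib.Basic
import Groth.Agent.FlatModBC.GenFlat
import Groth.Agent.DvrDom.ClosedProper
import Groth.Prelude.Def_Pic13

/-!
A bounded family containing all powers of an invertible module makes it `τ`-equivalent to zero.
-/

set_option autoImplicit false
set_option linter.unusedSectionVars false
set_option linter.style.haveILetI false
set_option backward.isDefEq.respectTransparency false

universe u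

open CategoryTheory CategoryTheory.Limits AlgebraicGeometry TopologicalSpace Opposite
open Groth.Agent.Intersect Groth.Agent.Nakai

noncomputable section

namespace Groth.Agent.PicBdd

variable (k : Type u) [Field k] {T : Scheme.{u}} {q : T ⟶ Spec (CommRingCat.of k)}

/-- The residue field of a rational point is the base field. -/
theorem rational_point (t : Spec (CommRingCat.of k) ⟶ T) (ht : t ≫ q = 𝟙 _)
    (x : ↑(Spec (CommRingCat.of k))) :
    IsIso (T.fromSpecResidueField (t.base x) ≫ q) ∧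
      T.fromSpecResidueField (t.base x) = (T.fromSpecResidueField (t.base x) ≫ q) ≫ t := by
  haveI : IsIso ((Spec (CommRingCat.of k)).fromSpecResidueField x) := by
    haveI : Subsingleton ↑(Spec (CommRingCat.of k)) := inferInstanceAs (Subsingleton (PrimeSpectrum k))
    exact CMChart.isIso_fromSpecResidueField_field x
  let ρ := (Spec (CommRingCat.of k)).fromSpecResidueField x
  have hy : Spec.map (t.residueFieldMap x) ≫ T.fromSpecResidueField (t.base x) = ρ ≫ t :=
    Scheme.Hom.SpecMap_residueFieldMap_fromSpecResidueField t x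
  let c := T.fromSpecResidueField (t.base x) ≫ q
  let α : CommRingCat.of k ⟶ T.residueField (t.base x) := Spec.preimage c
  let β := t.residueFieldMap x
  have hc : Spec.map β ≫ c = ρ := by rw [← Category.assoc, hy, Category.assoc, ht, Category.comp_id]
  haveI h2 : IsIso (Spec.map (α ≫ β)) := by
    rw [Spec.map_comp, Spec.map_preimage, hc]; infer_instance
  haveI : IsIso (α ≫ β) := by
    haveI : IsIso (Scheme.Spec.map (α ≫ β).op) := h2
    haveI := isIso_of_reflects_iso (α ≫ β).op Scheme.Spec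
    exact (isIso_op_iff _).1 this
  haveI : IsIso β := (ConcreteCategory.isIso_iff_bijective _).2 ⟨β.hom.injective, fun z => by
    obtain ⟨w, hw⟩ := (ConcreteCategory.bijective_of_isIso (α ≫ β)).2 z
    exact ⟨α w, hw⟩⟩
  haveI : IsIso c := by
    rw [show c = inv (Spec.map β) ≫ ρ by rw [← hc, IsIso.inv_hom_id_assoc]]
    infer_instance
  refine ⟨inferInstanceAs (IsIso c), ?_⟩
  rw [← cancel_epi (Spec.map β), hy, ← Category.assoc, hc]

theorem point_ext {t t' : Spec (CommRingCat.of k) ⟶ T} (ht : t ≫ q = 𝟙 _) (ht' : t' ≫ q = 𝟙 _)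
    (x : ↑(Spec (CommRingCat.of k))) (h : t.base x = t'.base x) : t = t' := by
  obtain ⟨h1, h2⟩ := rational_point k t ht x
  obtain ⟨-, h4⟩ := rational_point k t' ht' x
  rw [← h] at h4
  haveI := h1
  exact (cancel_epi (T.fromSpecResidueField (t.base x) ≫ q)).1 (h2.symm.trans h4)

variable {X : Scheme.{u}} [X.Over (Spec (CommRingCat.of k))]

theorem isInvertible_iso {Y : Scheme.{u}} {L M : Y.Modules} (e : L ≅ M) (h : PicF.IsInvertible L) :
    PicF.IsInvertible M := fun x => by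
  obtain ⟨U, hx, ⟨φ⟩⟩ := h x
  exact ⟨U, hx, ⟨((Scheme.Modules.restrictFunctor U.ι).mapIso e).symm ≪≫ φ⟩⟩

/-- Freeness along the fibre at a rational point with invertible fibre module. -/
theorem free1_of_fibreMod [IsLocallyNoetherian (Pic13.prodK k X q)] (t : Spec (CommRingCat.of k) ⟶ T)
    (ht : t ≫ q = 𝟙 _) (x : ↑(Spec (CommRingCat.of k))) {G : (Pic13.prodK k X q).Modules} (hG : Coh.IsCoh G)
    (z : ↥(Pic13.prodK k X q)) (hz : (pullback.snd (X ↘ Spec (CommRingCat.of k)) q).base z = t.base x)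
    (hflat : FlatMod.IsFlatOverAt (pullback.snd (X ↘ Spec (CommRingCat.of k)) q) G z)
    (hinv : PicF.IsInvertible (Pic13.fibreMod k X q t ht G)) : Free1 G z := by
  let f := pullback.snd (X ↘ Spec (CommRingCat.of k)) q
  let s := t.base x
  let γ : f.fiber s ⟶ X := f.fiberι s ≫ pullback.fst _ _
  have hγ : γ ≫ Pic13.sliceAt k X q t ht = f.fiberι s := by
    refine pullback.hom_ext ?_ ?_
    · rw [Category.assoc, Pic13.sliceAt, pullback.lift_fst, Category.comp_id]
    · rw [Category.assoc, Pic13.sliceAt, pullback.lift_snd]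
      have h1 : f.fiberι s ≫ f = f.fiberToSpecResidueField s ≫ T.fromSpecResidueField s := pullback.condition
      have h2 : γ ≫ (X ↘ Spec (CommRingCat.of k)) = (f.fiberι s ≫ f) ≫ q := by
        rw [Category.assoc, Category.assoc, pullback.condition]
      rw [← Category.assoc, h2, h1, Category.assoc, Category.assoc]
      exact congrArg (f.fiberToSpecResidueField s ≫ ·) (rational_point k t ht x).2.symm
  obtain ⟨y, rfl⟩ : z ∈ Set.range (f.fiberι s).base := by
    rw [Scheme.Hom.range_fiberι]; exact hz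
  refine free1_of_fibre f hG s y hflat ?_
  exact isInvertible_iso ((Scheme.Modules.pullbackComp γ (Pic13.sliceAt k X q t ht)).app G ≪≫
    (Scheme.Modules.pullbackCongr hγ).app G) (PicLoc.isInvertible_pullback γ hinv)

section Transfer

variable {Z : Scheme.{u}} (j : Z ⟶ T) {q' : Z ⟶ Spec (CommRingCat.of k)} (hq : j ≫ q = q')

/-- The induced map of products. -/
def prodMap : Pic13.prodK k X q' ⟶ Pic13.prodK k X q :=
  pullback.map _ _ _ _ (𝟙 X) j (𝟙 _) (by simp) (by rw [hq, Category.comp_id])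

/-- Fibres commute with pullback of families. -/
theorem nonempty_fibreMod_pullback (t : Spec (CommRingCat.of k) ⟶ Z) (ht : t ≫ q' = 𝟙 _)
    (ht' : (t ≫ j) ≫ q = 𝟙 _) (G : (Pic13.prodK k X q).Modules) :
    Nonempty (Pic13.fibreMod k X q' t ht ((Scheme.Modules.pullback (prodMap k j hq)).obj G) ≅
      Pic13.fibreMod k X q (t ≫ j) ht' G) := by
  have h : Pic13.sliceAt k X q' t ht ≫ prodMap k j hq = Pic13.sliceAt k X q (t ≫ j) ht' := by
    refine pullback.hom_ext ?_ ?_ <;> simp [prodMap, Pic13.sliceAt]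
  exact ⟨(Scheme.Modules.pullbackComp (Pic13.sliceAt k X q' t ht) (prodMap k j hq)).app G ≪≫
    (Scheme.Modules.pullbackCongr h).app G⟩

end Transfer

section Main

attribute [local instance] clMonoid

/-- A minimal closed set meeting an infinite set infinitely is irreducible, and the set is dense in it. -/
theorem exists_irreducible_infinite {α : Type*} [TopologicalSpace α] [NoetherianSpace α] (S : Set α)
    (hS : S.Infinite) : ∃ C : Closeds α, IsIrreducible (C : Set α) ∧
      ∀ O : Set α, IsOpen O → (O ∩ C).Nonempty → (O ∩ C ∩ S).Infinite := by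
  obtain ⟨C, hC, hmin⟩ := (wellFounded_lt (α := Closeds α)).has_min
    {C : Closeds α | ((C : Set α) ∩ S).Infinite} ⟨⊤, by simpa using hS⟩
  have key : ∀ D : Closeds α, (D : Set α) ⊆ C → ((D : Set α) ∩ S).Infinite → (C : Set α) ⊆ D := by
    intro D hD hi
    by_contra h
    exact hmin D hi (lt_of_le_not_ge hD h)
  refine ⟨C, ⟨(hC.mono (fun a ha => ha.1)).nonempty, ?_⟩, fun O hO hne => ?_⟩
  · rw [isPreirreducible_iff_isClosed_union_isClosed]
    intro A B hA hB hCAB
    rcases Set.infinite_union.1 (hC.mono (show (C : Set α) ∩ S ⊆ (A ∩ C ∩ S) ∪ (B ∩ C ∩ S) from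
      fun a ha => (hCAB ha.1).imp (fun h => ⟨⟨h, ha.1⟩, ha.2⟩) fun h => ⟨⟨h, ha.1⟩, ha.2⟩)) with h | h
    · exact Or.inl fun a ha => (key ⟨A ∩ C, hA.inter C.isClosed⟩ Set.inter_subset_right h ha).1
    · exact Or.inr fun a ha => (key ⟨B ∩ C, hB.inter C.isClosed⟩ Set.inter_subset_right h ha).1
  · obtain ⟨a, haO, haC⟩ := hne
    by_contra h
    refine absurd (key ⟨(C : Set α) \ O, C.isClosed.sdiff hO⟩ Set.diff_subset ?_ haC).2 (not_not.2 haO)
    refine (hC.diff (Set.not_infinite.1 h)).mono ?_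
    rintro b ⟨⟨hbC, hbS⟩, hb⟩
    exact ⟨⟨hbC, fun hbO => hb ⟨⟨hbO, hbC⟩, hbS⟩⟩, hbS⟩

/-- A module isomorphic to the structure sheaf is algebraically equivalent to zero. -/
theorem isAlgEquivZero_of_iso {L : X.Modules} (e : L ≅ Coh.structureModule X) : Pic13.IsAlgEquivZero k X L := by
  haveI : ConnectedSpace ↑(Spec (CommRingCat.of k)) := inferInstanceAs (ConnectedSpace (PrimeSpectrum k))
  refine ⟨Spec (CommRingCat.of k), 𝟙 _, inferInstance, inferInstance, inferInstance,
    Coh.structureModule _, ?_, 𝟙 _, 𝟙 _, Category.id_comp _, Category.id_comp _,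
    ⟨DerPerf.pullUnitIso _ ≪≫ e.symm⟩, ⟨DerPerf.pullUnitIso _⟩⟩
  exact fun x => ⟨⊤, trivial, ⟨Scheme.Modules.restrictUnitIso _⟩⟩

variable [IsProper (X ↘ Spec (CommRingCat.of k))]

/-- Two members of a family in a piece where it is invertible differ by an algebraically trivial module. -/
theorem isAlgEquivZero_of_family {W : Scheme.{u}} {qW : W ⟶ Spec (CommRingCat.of k)} [ConnectedSpace W]
    [LocallyOfFiniteType qW] [QuasiCompact qW] {M : (Pic13.prodK k X qW).Modules} (hM : PicF.IsInvertible M)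
    (t t₀ : Spec (CommRingCat.of k) ⟶ W) (ht : t ≫ qW = 𝟙 _) (ht₀ : t₀ ≫ qW = 𝟙 _)
    {A B B' C : X.Modules} (hB' : PicF.IsInvertible B')
    (eA : Nonempty (Pic13.fibreMod k X qW t ht M ≅ A)) (eB : Nonempty (Pic13.fibreMod k X qW t₀ ht₀ M ≅ B))
    (hAC : PicF.cl A * PicF.cl B' = PicF.cl C) (hBB : PicF.cl B * PicF.cl B' = 1) :
    Pic13.IsAlgEquivZero k X C := by
  let p := pullback.fst (X ↘ Spec (CommRingCat.of k)) qW
  have hN := PicLoc.isInvertible_pullback p hB'
  refine ⟨W, qW, inferInstance, inferInstance, inferInstance,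
    CohB1.tensorMod M ((Scheme.Modules.pullback p).obj B'), TMul.isInvertible_tensorMod hM hN,
    t, t₀, ht, ht₀, ?_⟩
  have key : ∀ (τ : Spec (CommRingCat.of k) ⟶ W) (hτ : τ ≫ qW = 𝟙 _) (D : X.Modules),
      Nonempty (Pic13.fibreMod k X qW τ hτ M ≅ D) →
      Nonempty (Pic13.fibreMod k X qW τ hτ (CohB1.tensorMod M ((Scheme.Modules.pullback p).obj B')) ≅
        CohB1.tensorMod D B') := by
    rintro τ hτ D ⟨e⟩
    obtain ⟨a⟩ := TMul.nonempty_pullTensorIso (Pic13.sliceAt k X qW τ hτ) M ((Scheme.Modules.pullback p).obj B')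
    have hs : Pic13.sliceAt k X qW τ hτ ≫ p = 𝟙 X := pullback.lift_fst _ _ _
    exact ⟨a.symm ≪≫ PicGrp.tensorModIso e ((Scheme.Modules.pullbackComp _ p).app B' ≪≫
      (Scheme.Modules.pullbackCongr hs).app B' ≪≫ (Scheme.Modules.pullbackId X).app B')⟩
  obtain ⟨e1⟩ := key t ht A eA
  obtain ⟨e2⟩ := key t₀ ht₀ B eB
  exact ⟨⟨e1 ≪≫ (iso_of_cl (by rw [cl_tensor, hAC])).some⟩,
    ⟨e2 ≪≫ (iso_of_cl (by rw [cl_tensor, hBB, cl_one])).some⟩⟩

/-- A bounded family containing all powers of `L` makes `L` τ-trivial. -/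
theorem isTau_of_bounded {L : X.Modules} (hL : PicF.IsInvertible L) (P : X.Modules → Prop)
    (hP : ∀ n : ℕ, P (CohB1.tensorPow L n)) (hb : Pic13.IsBounded k X P) :
    Pic13.IsTauEquivZero k X L := by
  classical
  haveI := CurveRR.isNoetherian_of_proper k X
  obtain ⟨L', hL', hLL'⟩ := W7Hull.exists_tensor_inverse hL
  obtain ⟨T, q, hlft, hqc, F, hF, hfam⟩ := hb
  haveI := hlft
  haveI := hqc
  choose t ht e using fun n => hfam _ (hP n)
  let x₀ : ↑(Spec (CommRingCat.of k)) := (⊥ : PrimeSpectrum k)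
  by_cases hinj : Function.Injective fun n => (t n).base x₀
  swap
  · simp only [Function.Injective, not_forall] at hinj
    obtain ⟨a, b, hab, hne⟩ := hinj
    have htt := point_ext k (ht a) (ht b) x₀ hab
    have hiso : Nonempty (CohB1.tensorPow L a ≅ CohB1.tensorPow L b) := by
      have h' : ∀ (τ : Spec (CommRingCat.of k) ⟶ T) (hτ : τ ≫ q = 𝟙 _), τ = t a →
          Nonempty (Pic13.fibreMod k X q τ hτ F ≅ CohB1.tensorPow L a) := by
        rintro τ hτ rfl; exact e a
      exact ⟨(h' (t b) (ht b) htt.symm).some.symm ≪≫ (e b).some⟩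
    have hcl : PicF.cl L ^ a = PicF.cl L ^ b := by
      rw [← cl_pow, ← cl_pow]; exact (PicGrp.cl_eq_cl_iff _ _).2 hiso
    have : ∀ a b : ℕ, a < b → PicF.cl L ^ a = PicF.cl L ^ b → Pic13.IsTauEquivZero k X L := by
      intro a b hlt h
      refine ⟨b - a, by omega, isAlgEquivZero_of_iso k (iso_of_cl ?_).some⟩
      have h1 := congrArg (· * PicF.cl L' ^ a) h
      simp only [← mul_pow, cl_inv hLL', one_pow] at h1
      rw [cl_pow, cl_one, h1, show b = (b - a) + a by omega, pow_add, mul_assoc, ← mul_pow, cl_inv hLL', one_pow,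
        mul_one, Nat.add_sub_cancel]
    rcases Nat.lt_or_gt_of_ne hne with h | h
    · exact this a b h hcl
    · exact this b a h hcl.symm
  haveI : IsLocallyNoetherian T := LocallyOfFiniteType.isLocallyNoetherian q
  haveI : CompactSpace T := QuasiCompact.compactSpace_of_compactSpace q
  haveI : IsNoetherian T := {}
  obtain ⟨C, hC, hdense⟩ := exists_irreducible_infinite (Set.range fun n => (t n).base x₀)
    (Set.infinite_range_of_injective hinj)
  let I := Scheme.IdealSheafData.vanishingIdeal C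
  let Z := I.subscheme
  let j : Z ⟶ T := I.subschemeι
  have hjr : Set.range j = (C : Set T) := DvrDom.range_vanishingIdeal_subschemeι C
  haveI : IsReduced Z := DvrDom.isReduced_vanishingIdeal_subscheme C
  haveI : IrreducibleSpace Z := by
    have hemb : Topology.IsInducing j := j.isClosedEmbedding.isInducing
    have hne : Nonempty Z := by
      obtain ⟨a, ha⟩ := hC.nonempty
      obtain ⟨z, -⟩ := (hjr.symm ▸ ha : a ∈ Set.range j)
      exact ⟨z⟩
    haveI := hne
    haveI : PreirreducibleSpace Z := ⟨by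
      refine fun U V hU hV ⟨a, _, ha⟩ ⟨b, _, hb⟩ => ?_
      obtain ⟨U', hU', rfl⟩ := hemb.isOpen_iff.1 hU
      obtain ⟨V', hV', rfl⟩ := hemb.isOpen_iff.1 hV
      obtain ⟨c, hc, hc'⟩ := hC.isPreirreducible U' V' hU' hV'
        ⟨j a, hjr.subset ⟨a, rfl⟩, ha⟩ ⟨j b, hjr.subset ⟨b, rfl⟩, hb⟩
      obtain ⟨w, rfl⟩ := hjr.symm.subset hc
      exact ⟨w, trivial, hc'⟩⟩
    exact { toNonempty := hne }
  haveI : IsIntegral Z := isIntegral_of_irreducibleSpace_of_isReduced Z
  let qZ := j ≫ q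
  let J := prodMap k (X := X) j (q' := qZ) rfl
  let G := (Scheme.Modules.pullback J).obj F
  have hG : Coh.IsCoh G := Groth.Agent.QC.isCoh_pullback J hF
  let π := pullback.snd (X ↘ Spec (CommRingCat.of k)) qZ
  haveI : IsLocallyNoetherian (Pic13.prodK k X qZ) :=
    LocallyOfFiniteType.isLocallyNoetherian (pullback.fst (X ↘ Spec (CommRingCat.of k)) qZ)
  haveI := hG.1
  obtain ⟨V, hVne, hflat⟩ := FlatModBC.exists_opens_flatAt π G hG.2
  -- lifts of the points lying on the component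
  have hlift : ∀ n, (t n).base x₀ ∈ (C : Set T) → ∃ (τ : Spec (CommRingCat.of k) ⟶ Z) (hτ : τ ≫ qZ = 𝟙 _),
      τ ≫ j = t n ∧ Nonempty (Pic13.fibreMod k X qZ τ hτ G ≅ CohB1.tensorPow L n) := by
    intro n hn
    obtain ⟨τ, hτj⟩ := RedSepLib.exists_lift_of_isReduced (t n) j (by
      rintro _ ⟨w, rfl⟩
      rw [hjr]
      haveI : Subsingleton ↑(Spec (CommRingCat.of k)) := inferInstanceAs (Subsingleton (PrimeSpectrum k))
      rwa [Subsingleton.elim w x₀])
    have hτ : τ ≫ qZ = 𝟙 _ := by rw [← Category.assoc, hτj, ht]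
    refine ⟨τ, hτ, hτj, ?_⟩
    obtain ⟨e1⟩ := nonempty_fibreMod_pullback k (q := q) j (q' := qZ) rfl τ hτ (by rw [hτj, ht]) F
    have h' : ∀ (σ : Spec (CommRingCat.of k) ⟶ T) (hσ : σ ≫ q = 𝟙 _), σ = t n →
        Nonempty (Pic13.fibreMod k X q σ hσ F ≅ CohB1.tensorPow L n) := by
      rintro σ hσ rfl; exact e n
    exact ⟨e1 ≪≫ (h' _ _ hτj).some⟩
  -- an open of the component on which the family is invertible
  have hpick : ∀ W : Z.Opens, (W : Set Z).Nonempty → ∃ N : Set ℕ, N.Infinite ∧ ∀ n ∈ N,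
      ∃ (τ : Spec (CommRingCat.of k) ⟶ Z) (hτ : τ ≫ qZ = 𝟙 _), τ.base x₀ ∈ W ∧
        Nonempty (Pic13.fibreMod k X qZ τ hτ G ≅ CohB1.tensorPow L n) := by
    intro W ⟨w, hw⟩
    obtain ⟨O, hO, hOW⟩ := j.isClosedEmbedding.isInducing.isOpen_iff.1 W.2
    have hw' : w ∈ j ⁻¹' O := hOW.symm ▸ hw
    refine ⟨{n | (t n).base x₀ ∈ O ∩ C}, fun hfin => hdense O hO ⟨j w, hw', hjr.subset ⟨w, rfl⟩⟩
      ((hfin.image fun n => (t n).base x₀).subset ?_), fun n hn => ?_⟩
    · rintro _ ⟨ha, n, rfl⟩; exact ⟨n, ha, rfl⟩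
    obtain ⟨τ, hτ, hτj, he⟩ := hlift n hn.2
    refine ⟨τ, hτ, ?_, he⟩
    refine hOW.subset ?_
    show j (τ.base x₀) ∈ O
    rw [show j (τ.base x₀) = (t n).base x₀ from congrArg (fun f => f.base x₀) hτj]
    exact hn.1
  obtain ⟨N, hN, hNp⟩ := hpick V hVne
  obtain ⟨n₁, hn₁⟩ := hN.nonempty
  obtain ⟨τ₁, hτ₁, hτV, ⟨e₁⟩⟩ := hNp n₁ hn₁
  have hclosed : IsClosed (π.base '' {z | Free1 G z}ᶜ) :=
    π.isClosedMap _ (isOpen_free1 hG).isClosed_compl
  let W : Z.Opens := V ⊓ ⟨(π.base '' {z | Free1 G z}ᶜ)ᶜ, hclosed.isOpen_compl⟩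
  have hW : (W : Set Z).Nonempty := by
    refine ⟨τ₁.base x₀, hτV, ?_⟩
    rintro ⟨z, hz, hzt⟩
    exact hz (free1_of_fibreMod k τ₁ hτ₁ x₀ hG z hzt (hflat z (by rw [hzt]; exact hτV))
      (isInvertible_iso e₁.symm (TMul.isInvertible_tensorPow hL n₁)))
  let qW := W.ι ≫ qZ
  haveI : Nonempty W := hW.to_subtype
  haveI : IsIntegral W := isIntegral_of_isOpenImmersion W.ι
  haveI : ConnectedSpace ↑(W : Scheme) := inferInstance
  haveI : IsNoetherian Z := by
    haveI : CompactSpace Z := QuasiCompact.compactSpace_of_compactSpace qZ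
    haveI : IsLocallyNoetherian Z := LocallyOfFiniteType.isLocallyNoetherian qZ
    exact {}
  haveI : QuasiCompact qW := inferInstance
  let JW := prodMap k (X := X) W.ι (q' := qW) rfl
  have hM : PicF.IsInvertible ((Scheme.Modules.pullback JW).obj G) := by
    refine isInvertible_pullback_of_free1 JW hG fun z => ?_
    by_contra hz
    have h1 : π.base (JW.base z) ∈ (W : Set Z) := by
      have : JW ≫ π = pullback.snd (X ↘ Spec (CommRingCat.of k)) qW ≫ W.ι := pullback.lift_snd _ _ _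
      rw [show π.base (JW.base z) = W.ι ((pullback.snd (X ↘ Spec (CommRingCat.of k)) qW).base z) from
        congrArg (fun f => f.base z) this]
      exact (pullback.snd (X ↘ Spec (CommRingCat.of k)) qW z).2
    exact h1.2 ⟨_, hz, rfl⟩
  obtain ⟨N', hN', hNp'⟩ := hpick W hW
  obtain ⟨a, ha⟩ := hN'.nonempty
  obtain ⟨b, hb, hab⟩ := hN'.exists_gt a
  obtain ⟨τa, hτa, hWa, ea⟩ := hNp' a ha
  obtain ⟨τb, hτb, hWb, eb⟩ := hNp' b hb
  have hl : ∀ (τ : Spec (CommRingCat.of k) ⟶ Z) (n : ℕ) (hτ : τ ≫ qZ = 𝟙 _), τ.base x₀ ∈ W →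
      Nonempty (Pic13.fibreMod k X qZ τ hτ G ≅ CohB1.tensorPow L n) →
      ∃ (σ : Spec (CommRingCat.of k) ⟶ W) (hσ : σ ≫ qW = 𝟙 _),
        Nonempty (Pic13.fibreMod k X qW σ hσ ((Scheme.Modules.pullback JW).obj G) ≅ CohB1.tensorPow L n) := by
    intro τ n hτ hmem he
    have hr : Set.range τ ⊆ Set.range W.ι := by
      rintro _ ⟨w, rfl⟩
      haveI : Subsingleton ↑(Spec (CommRingCat.of k)) := inferInstanceAs (Subsingleton (PrimeSpectrum k))
      rw [Scheme.Opens.range_ι, Subsingleton.elim w x₀]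
      exact hmem
    have hσ : IsOpenImmersion.lift W.ι τ hr ≫ qW = 𝟙 _ := by
      rw [← Category.assoc, IsOpenImmersion.lift_fac, hτ]
    refine ⟨IsOpenImmersion.lift W.ι τ hr, hσ, ?_⟩
    obtain ⟨e1⟩ := nonempty_fibreMod_pullback k (q := qZ) W.ι (q' := qW) rfl _ hσ
      (by rw [IsOpenImmersion.lift_fac, hτ]) G
    have h' : ∀ (σ' : Spec (CommRingCat.of k) ⟶ Z) (hσ' : σ' ≫ qZ = 𝟙 _), σ' = τ →
        Nonempty (Pic13.fibreMod k X qZ σ' hσ' G ≅ CohB1.tensorPow L n) := by
      rintro σ' hσ' rfl; exact he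
    exact ⟨e1 ≪≫ (h' _ _ (IsOpenImmersion.lift_fac _ _ _)).some⟩
  obtain ⟨σa, hσa, fa⟩ := hl τa a hτa hWa ea
  obtain ⟨σb, hσb, fb⟩ := hl τb b hτb hWb eb
  refine ⟨b - a, by omega, isAlgEquivZero_of_family k hM σb σa hσb hσa
    (TMul.isInvertible_tensorPow hL' a) fb fa ?_ ?_⟩
  · rw [cl_pow, cl_pow, cl_pow, show b = (b - a) + a by omega, pow_add, mul_assoc, ← mul_pow, cl_inv hLL', one_pow,
      mul_one, Nat.add_sub_cancel]
  · rw [cl_pow, cl_pow, ← mul_pow, cl_inv hLL', one_pow]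

end Main

end Groth.Agent.PicBdd
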