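import Groth.Agent.PicBdd.Resolve
import Groth.Agent.GrothSS.ChangeRings
import Groth.Prelude.Def_Pic13

/-!
Cokernels of linear combinations of finitely many morphisms form a bounded family; regular modules
with fixed Hilbert polynomial form a bounded family.
-/

set_option autoImplicit false
set_option linter.unusedSectionVars false
set_option linter.style.haveILetI false
set_option backward.isDefEq.respectTransparency false

universe u

open CategoryTheory CategoryTheory.Limits AlgebraicGeometry TopologicalSpace Opposite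

noncomputable section

namespace Groth.Agent.PicBdd

attribute [local instance] Abelian.hasFiniteBiproducts

section Family

variable {k : Type u} [Field k] {X : Scheme.{u}}

/-- Global functions from the base and a change of rings. -/
theorem toGlobal_specMap {R A : Type u} [CommRing R] [CommRing A] (f : X ⟶ Spec (CommRingCat.of A))
    (φ : R →+* A) (x : R) :
    Coh.toGlobal (f ≫ Spec.map (CommRingCat.ofHom φ)) x = Coh.toGlobal f (φ x) := by
  show (f ≫ Spec.map (CommRingCat.ofHom φ)).appTop.hom ((Scheme.ΓSpecIso (CommRingCat.of R)).inv.hom x) =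
    f.appTop.hom ((Scheme.ΓSpecIso (CommRingCat.of A)).inv.hom (φ x))
  rw [Scheme.Hom.comp_appTop, CommRingCat.hom_comp, RingHom.comp_apply]
  exact congrArg f.appTop.hom (congrArg (fun g => g.hom x)
    (Scheme.ΓSpecIso_inv_naturality (CommRingCat.ofHom φ))).symm

theorem toGlobal_comp {Y : Scheme.{u}} {A : Type u} [CommRing A] (g : Y ⟶ X) (f : X ⟶ Spec (CommRingCat.of A))
    (x : A) : g.appTop (show Γ(X, ⊤) from Coh.toGlobal f x) = Coh.toGlobal (g ≫ f) x := by
  show g.appTop.hom (f.appTop.hom ((Scheme.ΓSpecIso (CommRingCat.of A)).inv.hom x)) =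
    (g ≫ f).appTop.hom ((Scheme.ΓSpecIso (CommRingCat.of A)).inv.hom x)
  rw [Scheme.Hom.comp_appTop, CommRingCat.hom_comp, RingHom.comp_apply]

/-- Pullback of a linear combination. -/
theorem pullback_map_sum_scal {Y : Scheme.{u}} (σ : Y ⟶ X) {ι : Type*} [Fintype ι] {A B : X.Modules}
    (H : ι → (A ⟶ B)) (c : ι → Γ(X, ⊤)) :
    (Scheme.Modules.pullback σ).map (∑ j, H j ≫ scal (c j) B) =
      ∑ j, (Scheme.Modules.pullback σ).map (H j) ≫ scal (σ.appTop (c j)) _ := by
  rw [Functor.map_sum]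
  exact Finset.sum_congr rfl fun j _ => by rw [Functor.map_comp, pullback_map_scal]

variable (k) [X.Over (Spec (CommRingCat.of k))] [IsLocallyNoetherian X]

/-- Cokernels of linear combinations of finitely many morphisms form a bounded family. -/
theorem isBounded_linear_family [LocallyOfFiniteType (X ↘ Spec (CommRingCat.of k))] {r : ℕ}
    {P₀ P₁ : X.Modules} (h₀ : Coh.IsCoh P₀) (h₁ : Coh.IsCoh P₁) (H : Fin r → (P₁ ⟶ P₀)) :
    Pic13.IsBounded k X (fun F => ∃ a : Fin r → k, Nonempty (cokernel (∑ j, a j • H j) ≅ F)) := by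
  let R := MvPolynomial (Fin r) k
  let q : Spec (CommRingCat.of R) ⟶ Spec (CommRingCat.of k) := Spec.map (CommRingCat.ofHom (algebraMap k R))
  haveI hlft : LocallyOfFiniteType q := by
    rw [HasRingHomProperty.Spec_iff (P := @LocallyOfFiniteType)]
    exact RingHom.finiteType_algebraMap.mpr inferInstance
  haveI : QuasiCompact q := inferInstance
  haveI : IsLocallyNoetherian (Pic13.prodK k X q) :=
    LocallyOfFiniteType.isLocallyNoetherian (pullback.fst (X ↘ Spec (CommRingCat.of k)) q)
  let p := pullback.fst (X ↘ Spec (CommRingCat.of k)) q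
  let π := pullback.snd (X ↘ Spec (CommRingCat.of k)) q
  let c : Fin r → Γ(Pic13.prodK k X q, ⊤) := fun j => Coh.toGlobal π (MvPolynomial.X j)
  let U : (Scheme.Modules.pullback p).obj P₁ ⟶ (Scheme.Modules.pullback p).obj P₀ :=
    ∑ j, (Scheme.Modules.pullback p).map (H j) ≫ scal (c j) _
  refine ⟨Spec (CommRingCat.of R), q, hlft, inferInstance, cokernel U,
    Groth.Agent.QC.isCoh_cokernel (Groth.Agent.QC.isQCoh_pullback p h₁.1) (Groth.Agent.QC.isCoh_pullback p h₀) U, ?_⟩
  rintro F ⟨a, ⟨e⟩⟩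
  let t : Spec (CommRingCat.of k) ⟶ Spec (CommRingCat.of R) :=
    Spec.map (CommRingCat.ofHom (MvPolynomial.eval a))
  have ht : t ≫ q = 𝟙 _ := by
    rw [← Spec.map_comp, ← Spec.map_id]
    congr 1
    ext x
    exact MvPolynomial.eval_C x
  refine ⟨t, ht, ?_⟩
  let σ := Pic13.sliceAt k X q t ht
  have hfst : σ ≫ p = 𝟙 X := pullback.lift_fst _ _ _
  have hsnd : σ ≫ π = (X ↘ Spec (CommRingCat.of k)) ≫ t := pullback.lift_snd _ _ _
  have hc : ∀ j, σ.appTop (c j) = (show Γ(X, ⊤) from Coh.toGlobal (X ↘ Spec (CommRingCat.of k)) (a j)) := fun j => by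
    refine (toGlobal_comp σ π (MvPolynomial.X j)).trans ?_
    rw [hsnd, toGlobal_specMap, MvPolynomial.eval_X]
  let θ : Scheme.Modules.pullback p ⋙ Scheme.Modules.pullback σ ≅ 𝟭 _ :=
    Scheme.Modules.pullbackComp σ p ≪≫ Scheme.Modules.pullbackCongr hfst ≪≫ Scheme.Modules.pullbackId X
  have w : (Scheme.Modules.pullback σ).map U ≫ (θ.app P₀).hom = (θ.app P₁).hom ≫ ∑ j, a j • H j := by
    rw [pullback_map_sum_scal, Preadditive.sum_comp, Preadditive.comp_sum]
    refine Finset.sum_congr rfl fun j _ => ?_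
    rw [hc, smul_eq_scal, Category.assoc, scal_comp, ← Category.assoc, ← Category.assoc]
    exact congrArg (· ≫ _) (θ.hom.naturality (H j))
  exact ⟨PreservesCokernel.iso (Scheme.Modules.pullback σ) U ≪≫
    cokernel.mapIso _ _ (θ.app P₁) (θ.app P₀) w ≪≫ e⟩

end Family

section Main

variable (k : Type u) [Field k] {n : ℕ} {X : Scheme.{u}} [X.Over (Spec (CommRingCat.of k))]

/-- Linearity of pullback over the base. -/
theorem pullback_map_smul_sum (i : X ⟶ CohB1.ProjSpace n k)
    (hi : i ≫ CohB1.ProjSpace.toSpec n k = X ↘ Spec (CommRingCat.of k)) {ι : Type*} [Fintype ι]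
    {A B : (CohB1.ProjSpace n k).Modules} (H : ι → (A ⟶ B)) (a : ι → k) :
    (Scheme.Modules.pullback i).map (∑ j, a j • H j) = ∑ j, a j • (Scheme.Modules.pullback i).map (H j) := by
  simp only [smul_eq_scal]
  rw [pullback_map_sum_scal]
  refine Finset.sum_congr rfl fun j _ => ?_
  rw [toGlobal_comp]
  exact congrArg (fun f => (Scheme.Modules.pullback i).map (H j) ≫ scal (show Γ(X, ⊤) from Coh.toGlobal f (a j)) _) hi

/-- Regular modules with a fixed Hilbert polynomial form a bounded family. -/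
theorem isBounded_regular (i : X ⟶ CohB1.ProjSpace n k) [IsClosedImmersion i]
    (hi : i ≫ CohB1.ProjSpace.toSpec n k = X ↘ Spec (CommRingCat.of k)) (m : ℤ) (φ : Polynomial ℚ) :
    Pic13.IsBounded k X (fun F : X.Modules => Coh.IsCoh F ∧ Pic13.IsMRegular k i F m ∧
      ∀ d : ℤ, (FGA.eulerCharLE k X (Pic13.twistOn k i F d) n : ℚ) = φ.eval (d : ℚ)) := by
  haveI : IsNoetherian (CohB1.ProjSpace n k) := CohFinite.isNoetherian_projSpace n k
  haveI : IsLocallyNoetherian X := LocallyOfFiniteType.isLocallyNoetherian i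
  haveI : IsProper (CohB1.ProjSpace.toSpec n k) := ProjMor.isProper_toSpec n k
  haveI : LocallyOfFiniteType (X ↘ Spec (CommRingCat.of k)) := hi ▸ inferInstance
  let b : ℕ := ⌊φ.eval (m : ℚ)⌋.toNat
  let O := Twist.twistProjSpace n k
  obtain ⟨C, hC⟩ := exists_presentation (k := k) (n := n) m b
  obtain ⟨j₀⟩ := GrT.nonempty_twist_zero_iso (𝒜 := CohB1.polyGrading n k)
  obtain ⟨i'⟩ := RegCx.twist_twist (k := k) (n := n) (m + 1) (-(m + 1)) 0 (by ring)
  have hG : Coh.IsCoh (∐ fun _ : Fin b => O (-m)) :=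
    CohFinite.isCoh_of_iso (biproduct.isoCoproduct _)
      (Devissage.isCoh_biproduct _ fun _ => CohFinite.isCoh_twist n k (-m))
  have hP : Coh.IsCoh (∐ fun _ : Fin C => O (-(m + 1))) :=
    CohFinite.isCoh_of_iso (biproduct.isoCoproduct _)
      (Devissage.isCoh_biproduct _ fun _ => CohFinite.isCoh_twist n k (-(m + 1)))
  obtain ⟨N, h, hh⟩ := exists_hom_span (L := O (-(m + 1))) (L' := O (m + 1))
    (CohFinite.isInvertible_twist n k (m + 1)) (i' ≪≫ j₀) hG
  let σ := Fintype.equivFin (Fin C × Fin N)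
  let H : Fin (Fintype.card (Fin C × Fin N)) →
      ((∐ fun _ : Fin C => O (-(m + 1))) ⟶ ∐ fun _ : Fin b => O (-m)) :=
    fun t => Sigma.desc fun e => if e = (σ.symm t).1 then h (σ.symm t).2 else 0
  obtain ⟨T, q, hq, hqc, U, hU, hfam⟩ := isBounded_linear_family k
    (Groth.Agent.QC.isCoh_pullback i hG) (Groth.Agent.QC.isCoh_pullback i hP)
    fun t => (Scheme.Modules.pullback i).map (H t)
  refine ⟨T, q, hq, hqc, U, hU, fun F ⟨hF, hreg, hφ⟩ => hfam F ?_⟩
  haveI := hF.1
  have hpc : Coh.IsCoh ((Scheme.Modules.pushforward i).obj F) :=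
    Groth.Agent.QC.isCoh_pushforward_of_isFinite i hF.2
  have hpr : Curv2.IsMRegular k n ((Scheme.Modules.pushforward i).obj F) m := fun d hd _ => by
    obtain ⟨e⟩ := SerrePn.nonempty_hh_pushTwist k i hi F (CohFinite.isInvertible_twist n k (m - d)) d
    exact e.toEquiv.subsingleton_congr.1 (hreg d hd)
  have hvan : ∀ d, 1 ≤ d → Subsingleton (Coh.HH X (Pic13.twistOn k i F m) d) := fun d hd => by
    obtain ⟨e⟩ := SerrePn.nonempty_hh_pushTwist k i hi F (CohFinite.isInvertible_twist n k m) d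
    exact e.toEquiv.subsingleton_congr.2 (SerrePn.vanish_of_regular _ hpc m hpr d m hd (by omega))
  have hb : CurveRR.h k (CohB1.tensorMod ((Scheme.Modules.pushforward i).obj F) (O m)) 0 = b := by
    obtain ⟨e⟩ := SerrePn.nonempty_hh_pushTwist k i hi F (CohFinite.isInvertible_twist n k m) 0
    have hz : FGA.eulerCharLE k X (Pic13.twistOn k i F m) n = (CurveRR.h k (Pic13.twistOn k i F m) 0 : ℤ) := by
      rw [FGA.eulerCharLE, Finset.sum_eq_single 0 (fun d _ hd => by
        haveI := hvan d (Nat.one_le_iff_ne_zero.2 hd)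
        rw [Module.finrank_zero_of_subsingleton, Nat.cast_zero, mul_zero]) (fun h => absurd (by simp) h)]
      rw [pow_zero, one_mul]
    have hm := hφ m
    rw [hz] at hm
    refine (e.symm.finrank_eq).trans ?_
    simp only [b, ← hm, Int.cast_natCast, Int.floor_natCast, Int.toNat_natCast]
    rfl
  obtain ⟨f, ⟨ef⟩⟩ := hC _ hpc hpr hb
  choose a ha using fun e => hh (Sigma.ι (fun _ : Fin C => O (-(m + 1))) e ≫ f)
  have hf : f = ∑ t, a (σ.symm t).1 (σ.symm t).2 • H t := by
    refine Sigma.hom_ext _ _ fun e => ?_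
    rw [ha, Preadditive.comp_sum, ← σ.sum_comp (fun t => Sigma.ι _ e ≫ (a (σ.symm t).1 (σ.symm t).2 • H t)),
      Fintype.sum_prod_type, Finset.sum_eq_single e]
    · refine Finset.sum_congr rfl fun j _ => ?_
      simp only [H, Equiv.symm_apply_apply, Linear.comp_smul, Sigma.ι_desc, if_true]
    · intro e' _ he'
      refine Finset.sum_eq_zero fun j _ => ?_
      simp only [H, Equiv.symm_apply_apply, Linear.comp_smul, Sigma.ι_desc, if_neg (Ne.symm he'), smul_zero]
    · exact fun h => absurd (Finset.mem_univ e) h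
  haveI := GrothSS.isIso_counit_push i
  refine ⟨fun t => a (σ.symm t).1 (σ.symm t).2, ⟨?_⟩⟩
  refine cokernelIsoOfEq ?_ ≪≫ (PreservesCokernel.iso (Scheme.Modules.pullback i) f).symm ≪≫
    (Scheme.Modules.pullback i).mapIso ef ≪≫
    (asIso (Scheme.Modules.pullbackPushforwardAdjunction i).counit).app F
  rw [hf, pullback_map_smul_sum k i hi]

end Main

end Groth.Agent.PicBdd
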