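import Groth.Agent.PicBdd.TauBdd
import Groth.Agent.PicBdd.Universal
import Groth.Agent.Nakai.UnifReg

/-!
Numerically trivial invertible modules on a projective scheme form a bounded family, so they are
`τ`-equivalent to zero.
-/

set_option autoImplicit false
set_option linter.unusedSectionVars false
set_option linter.style.haveILetI false
set_option backward.isDefEq.respectTransparency false

universe u

open CategoryTheory CategoryTheory.Limits AlgebraicGeometry TopologicalSpace Opposite
open Groth.Agent.Intersect Groth.Agent.Nakai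

noncomputable section

namespace Groth.Agent.PicBdd

attribute [local instance] clMonoid

variable (k : Type u) [Field k] {X : Scheme.{u}} [X.Over (Spec (CommRingCat.of k))]
  [IsProper (X ↘ Spec (CommRingCat.of k))]

/-- Degree zero on all curves gives vanishing degree. -/
theorem degFlat_of_num {L : X.Modules} (hL : PicF.IsInvertible L) (h : Pic13.IsNumEquivZero k X L) :
    DegFlat k L := by
  haveI := CurveRR.isNoetherian_of_proper k X
  have hnum : NumEq k L (Coh.structureModule X) := fun ξ hξ => by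
    haveI := Devissage.Zi_isIntegral ξ
    let i := Devissage.Zi ξ
    letI : (Scheme.IdealSheafData.vanishingIdeal (Devissage.Zc ξ)).subscheme.Over (Spec (CommRingCat.of k)) :=
      ⟨i ≫ (X ↘ Spec (CommRingCat.of k))⟩
    haveI : IsProper ((Scheme.IdealSheafData.vanishingIdeal (Devissage.Zc ξ)).subscheme ↘ Spec (CommRingCat.of k)) :=
      inferInstanceAs (IsProper (i ≫ (X ↘ Spec (CommRingCat.of k))))
    have hd : topologicalKrullDim (Scheme.IdealSheafData.vanishingIdeal (Devissage.Zc ξ)).subscheme = 1 := by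
      have hr : Set.range i.base = closure ({ξ} : Set X) := Devissage.range_Zi ξ
      rw [IsHomeomorph.topologicalKrullDim_eq _ i.isClosedEmbedding.isEmbedding.toHomeomorph.isHomeomorph, hr, hξ]
      rfl
    have h0 := h _ i (Devissage.Zi_isIntegral ξ) hd
    rw [Pic13.curveDeg] at h0
    change FGA.eulerCharLE k _ ((Scheme.Modules.pullback i).obj L) 1 -
      FGA.eulerCharLE k _ (Coh.structureModule _) 1 = 0 at h0
    rw [eulerCharLE_eq k 1 hd.le, eulerCharLE_eq k 1 hd.le, sub_eq_zero] at h0
    obtain ⟨e⟩ := SerrePn.nonempty_pushTwist i (Coh.structureModule _) hL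
    have e2 : CohB1.tensorMod (Devissage.A ξ) L ≅
        (Scheme.Modules.pushforward i).obj ((Scheme.Modules.pullback i).obj L) :=
      e ≪≫ (Scheme.Modules.pushforward i).mapIso (TMul.leftUnitIso _)
    rw [CurveRR.euler_eq_of_iso e2,
      CurveRR.Multi.euler_push k i _ (CurveRR.isCoh_of_inv (PicLoc.isInvertible_pullback i hL)).1, h0,
      CurveRR.euler_eq_of_iso (TMul.commIso (Devissage.A ξ) (Coh.structureModule X) ≪≫ TMul.leftUnitIso _)]
    exact (CurveRR.Multi.euler_push k i _ (CurveRR.isCoh_of_inv TMul.isInvertible_structureModule).1).symm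
  intro F hF hd
  have := alt_numeric k 1 (fun _ => L) (fun _ => Coh.structureModule X) (fun _ => hL)
    (fun _ => TMul.isInvertible_structureModule) (fun _ => hnum) F hF hd
  rw [← D_replicate, ← D_replicate, List.replicate_one, List.replicate_one] at this
  rw [this]
  exact degFlat_one k F hF hd

theorem D1_tensor {A B : X.Modules} (hA : PicF.IsInvertible A) (hB : PicF.IsInvertible B) {F : X.Modules}
    (hF : Coh.IsCoh F) (hd : topologicalKrullDim (CohB1.support F) ≤ ((1 : ℕ) : WithBot ℕ∞)) :
    D k [CohB1.tensorMod A B] F = D k [A] F + D k [B] F := by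
  have h2 : D k [A, B] F = 0 := D_eq_zero k hF (l := [A, B]) (by simp [hA, hB]) (hd.trans_lt (by
    show ((1 : ℕ) : WithBot ℕ∞) < ((2 : ℕ) : WithBot ℕ∞)
    exact_mod_cast one_lt_two))
  simp only [D] at h2 ⊢
  have e : Curv2.euler k X (CohB1.tensorMod (CohB1.tensorMod F A) B) =
      Curv2.euler k X (CohB1.tensorMod F (CohB1.tensorMod A B)) :=
    euler_congr k (by simp only [cl_tensor, mul_assoc])
  rw [e] at h2
  linarith

theorem D1_pow {A : X.Modules} (hA : PicF.IsInvertible A) {F : X.Modules} (hF : Coh.IsCoh F)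
    (hd : topologicalKrullDim (CohB1.support F) ≤ ((1 : ℕ) : WithBot ℕ∞)) :
    ∀ m : ℕ, D k [CohB1.tensorPow A m] F = m * D k [A] F
  | 0 => by rw [Nat.cast_zero, zero_mul]; exact D_one_cons k F
  | m + 1 => by
    rw [show CohB1.tensorPow A (m + 1) = CohB1.tensorMod (CohB1.tensorPow A m) A from rfl,
      D1_tensor k (TMul.isInvertible_tensorPow hA m) hA hF hd, D1_pow hA hF hd m]
    push_cast; ring

/-- Ampleness of all twists forces vanishing degree. -/
theorem degFlat_of_ample {H L L' : X.Modules} (hH : CohB1.IsAmple H) (hL : PicF.IsInvertible L)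
    (hLL' : Nonempty (CohB1.tensorMod L L' ≅ Coh.structureModule X))
    (hamp : ∀ m : ℕ, CohB1.IsAmple (CohB1.tensorMod (CohB1.tensorPow L m) H) ∧
      CohB1.IsAmple (CohB1.tensorMod (CohB1.tensorPow L' m) H)) : DegFlat k L := by
  intro F hF hd
  have hL' := Nakai.isInvertible_inverse hL hLL'
  by_cases hlt : topologicalKrullDim (CohB1.support F) < ((1 : ℕ) : WithBot ℕ∞)
  · exact D_eq_zero k hF (l := [L]) (by simp [hL]) hlt
  have hr := le_antisymm hd (not_lt.1 hlt)
  have hinv : D k [L] F + D k [L'] F = 0 := by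
    rw [← D1_tensor k hL hL' hF hd]
    simp only [D]
    rw [euler_congr k (show PicF.cl (CohB1.tensorMod F (CohB1.tensorMod L L')) = PicF.cl F by
      rw [cl_tensor, cl_tensor, cl_inv hLL', mul_one]), sub_self]
  have hpos : ∀ M : X.Modules, CohB1.IsAmple M → D k [M] F < 0 := fun M hM => by
    have h := alt_pos k 1 (fun _ => M) (fun _ => hM) F hF hr
    rw [← D_replicate, List.replicate_one, pow_one] at h
    linarith
  have h1 : ∀ m : ℕ, (m : ℚ) * D k [L] F + D k [H] F < 0 ∧ (m : ℚ) * D k [L'] F + D k [H] F < 0 := fun m => by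
    refine ⟨?_, ?_⟩
    · rw [← D1_pow k hL hF hd m, ← D1_tensor k (TMul.isInvertible_tensorPow hL m) hH.1 hF hd]
      exact hpos _ (hamp m).1
    · rw [← D1_pow k hL' hF hd m, ← D1_tensor k (TMul.isInvertible_tensorPow hL' m) hH.1 hF hd]
      exact hpos _ (hamp m).2
  by_contra hne
  have habs : 0 < |D k [L] F| := abs_pos.2 hne
  obtain ⟨m, hm⟩ := exists_nat_gt ((-D k [H] F) / |D k [L] F|)
  rw [div_lt_iff₀ habs] at hm
  rcases abs_cases (D k [L] F) with ⟨e, -⟩ | ⟨e, -⟩
  · have := (h1 m).1; rw [e] at hm; linarith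
  · have := (h1 m).2; rw [e, show -D k [L] F = D k [L'] F by linarith] at hm; linarith

/-- Numerically trivial invertible modules form a bounded family. -/
theorem isBounded_num {n : ℕ} (i : X ⟶ CohB1.ProjSpace n k) [IsClosedImmersion i]
    (hi : i ≫ CohB1.ProjSpace.toSpec n k = X ↘ Spec (CommRingCat.of k)) :
    Pic13.IsBounded k X (fun L : X.Modules => PicF.IsInvertible L ∧ Pic13.IsNumEquivZero k X L) := by
  haveI := CurveRR.isNoetherian_of_proper k X
  let H := (Scheme.Modules.pullback i).obj (Twist.twistProjSpace n k 1)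
  have hH : CohB1.IsAmple H := TMul.isAmple_pullback_of_isAffineHom i (Groth.Agent.Intersect.isAmple_twistProj_one n k)
  obtain ⟨dX, hdX⟩ := exists_dim_bound k (X := X)
  let E : ℤ → X.Modules := fun d => (Scheme.Modules.pullback i).obj (Twist.twistProjSpace n k d)
  have hE : ∀ d, PicF.IsInvertible (E d) := fun d => PicLoc.isInvertible_pullback i (CohFinite.isInvertible_twist n k d)
  -- the Hilbert polynomial of the structure sheaf
  have hpoly : ∀ G : X.Modules, Coh.IsCoh G → ∃ Q : Polynomial ℚ, ∀ a : ℕ,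
      (Curv2.euler k X (CohB1.tensorMod G (CohB1.tensorPow H a)) : ℚ) = Q.eval (a : ℚ) := by
    intro G hG
    obtain ⟨P, -, hP⟩ := exists_polynomial k hG (D := dX + 1)
      (lt_succ_of_le' ((topologicalKrullDim_subspace_le X _).trans hdX)) (L := fun _ : Fin 1 => H) (fun _ => hH.1)
    refine ⟨MvPolynomial.eval₂ Polynomial.C (fun _ => Polynomial.X) P, fun a => ?_⟩
    have hg : (Curv2.euler k X (CohB1.tensorMod G (CohB1.tensorPow H a)) : ℚ) =
        MvPolynomial.eval (fun _ => (a : ℚ)) P := by
      rw [← hP (fun _ => a), euler_congr k (show PicF.cl (CohB1.tensorMod G (CohB1.tensorPow H a)) =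
        PicF.cl (Curv2.tensorPows G 1 (fun _ => H) fun _ => a) by
          simp only [Curv2.tensorPows, cl_tensor, cl_pow])]
    rw [hg, ← Polynomial.coe_evalRingHom, MvPolynomial.eval₂_comp_left]
    show MvPolynomial.eval₂ (RingHom.id ℚ) (fun _ => (a : ℚ)) P = MvPolynomial.eval₂ _ _ P
    congr 1
    · ext a; simp
    · funext i; simp
  have hclE : ∀ (d : ℤ) (a : ℕ), PicF.cl (E d) * PicF.cl H ^ a = PicF.cl (E (d + a)) := fun d a => by
    obtain ⟨e⟩ := RegCx.twist_twist (k := k) (n := n) d a (d + a) rfl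
    obtain ⟨t⟩ := TMul.nonempty_pullTensorIso i (Twist.twistProjSpace n k d) (Twist.twistProjSpace n k (a : ℤ))
    rw [← cl_pull_twist k i a, ← cl_tensor]
    exact (PicGrp.cl_eq_cl_iff _ _).2 ⟨t ≪≫ (Scheme.Modules.pullback i).mapIso e⟩
  have hcoh : ∀ d, Coh.IsCoh (E d) := fun d => CurveRR.isCoh_of_inv (hE d)
  obtain ⟨φ, hφ⟩ := hpoly _ (hcoh 0)
  have hφ' : ∀ d : ℤ, (Curv2.euler k X (E d) : ℚ) = φ.eval (d : ℚ) := by
    intro d
    rcases Int.eq_nat_or_neg d with ⟨e, rfl | rfl⟩
    · rw [Int.cast_natCast, ← hφ e]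
      exact congrArg _ (euler_congr k (by rw [cl_tensor, cl_pow, hclE, zero_add]))
    · obtain ⟨Q, hQ⟩ := hpoly _ (hcoh (-(e : ℤ)))
      have hQφ : φ = Q.comp (Polynomial.X + Polynomial.C (e : ℚ)) :=
        Polynomial.eq_of_infinite_eval_eq _ _ (Set.infinite_of_injective_forall_mem
          (f := fun a : ℕ => (a : ℚ)) Nat.cast_injective fun a => by
            show φ.eval _ = (Q.comp _).eval _
            rw [← hφ a, Polynomial.eval_comp, Polynomial.eval_add, Polynomial.eval_X, Polynomial.eval_C,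
              ← Nat.cast_add, ← hQ (a + e)]
            exact congrArg _ (euler_congr k (by
              rw [cl_tensor, cl_tensor, cl_pow, cl_pow, hclE, hclE]
              congr 2
              push_cast; ring)))
      rw [hQφ, Polynomial.eval_comp, Polynomial.eval_add, Polynomial.eval_X, Polynomial.eval_C,
        show ((-(e : ℤ) : ℤ) : ℚ) + (e : ℚ) = ((0 : ℕ) : ℚ) by push_cast; ring, ← hQ 0]
      exact congrArg _ (euler_congr k (by rw [cl_tensor, cl_pow, pow_zero, mul_one]))
  obtain ⟨m, hm⟩ := exists_regular k i hi (CurveRR.isCoh_of_inv (TMul.isInvertible_structureModule (X := X)))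
  obtain ⟨T, q, hq, hqc, U, hU, hfam⟩ := isBounded_regular k i hi (m : ℤ) φ
  refine ⟨T, q, hq, hqc, U, hU, fun L ⟨hL, hnum⟩ => hfam L ⟨CurveRR.isCoh_of_inv hL, fun q hq => ?_, fun d => ?_⟩⟩
  · have hf := degFlat_of_num k hL hnum
    exact CohQC.hh_subsingleton_of_iso (PicGrp.tensorModIso (TMul.leftUnitIso L) (Iso.refl _)) q (hm L hL hf q hq)
  · have hf := degFlat_of_num k hL hnum
    obtain ⟨hinv, -⟩ := unif k hH dX (E d) (hcoh d) ((topologicalKrullDim_subspace_le X _).trans hdX)
    rw [← hφ' d, ← hinv L hL hf]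
    refine congrArg _ (Eq.trans ?_ (CurveRR.euler_eq_of_iso (TMul.commIso L (E d))))
    haveI := (CurveRR.isCoh_of_inv hL).1
    haveI : (L : X.Modules).IsQuasicoherent := (CurveRR.isCoh_of_inv hL).1
    have hp : Coh.IsQCoh ((Scheme.Modules.pushforward i).obj L) :=
      (Groth.Agent.QC.isCoh_pushforward_of_isFinite i (CurveRR.isCoh_of_inv hL).2).1
    refine (CurveRR.euler_eq_sum (k := k) _ (n + 1) fun q hq => ?_).symm
    obtain ⟨e⟩ := SerrePn.nonempty_hh_pushTwist k i hi L (CohFinite.isInvertible_twist n k d) q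
    exact e.toEquiv.subsingleton_congr.2 (RegCx.hh_above _ hp d q (by omega))

/-- Numerical triviality implies `τ`-triviality on projective schemes. -/
theorem isTau_of_num {H L : X.Modules} (hH : CohB1.IsAmple H) (hL : PicF.IsInvertible L)
    (h : DegFlat k L) : Pic13.IsTauEquivZero k X L := by
  obtain ⟨n, d, r, -, hr, hcl, -⟩ := AmpleEmb.exists_closedImmersion_projSpace (X ↘ Spec (CommRingCat.of k)) hH
  haveI := hcl
  exact isTau_of_bounded k hL _ (fun m => ⟨TMul.isInvertible_tensorPow hL m,
    isNumEquivZero_of_degFlat k (TMul.isInvertible_tensorPow hL m) (h.pow k hL m)⟩) (isBounded_num k r hr)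

end Groth.Agent.PicBdd
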