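import Groth.Agent.PicBdd.Reps
import Groth.Agent.PicBdd.Universal
import Groth.Agent.Nakai.UnifReg

/-!
A bounded family is uniformly regular and has finitely many Hilbert polynomials.
-/

set_option autoImplicit false
set_option linter.unusedSectionVars false
set_option linter.style.haveILetI false
set_option backward.isDefEq.respectTransparency false

universe u

open CategoryTheory CategoryTheory.Limits AlgebraicGeometry TopologicalSpace Opposite
open Groth.Agent.Intersect Groth.Agent.Nakai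

noncomputable section

namespace Groth.Agent.PicBdd

attribute [local instance] clMonoid

variable (k : Type u) [Field k] {X : Scheme.{u}} [X.Over (Spec (CommRingCat.of k))]
  [IsProper (X ↘ Spec (CommRingCat.of k))]

/-- Betti numbers of the fibre at a rational point. -/
theorem betti_fibreMod {T : Scheme.{u}} {q : T ⟶ Spec (CommRingCat.of k)} (t : Spec (CommRingCat.of k) ⟶ T)
    (ht : t ≫ q = 𝟙 _) (x : ↑(Spec (CommRingCat.of k))) {M : (Pic13.prodK k X q).Modules} (hM : Coh.IsQCoh M)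
    (i : ℕ) :
    PerfAux.betti (pullback.snd (X ↘ Spec (CommRingCat.of k)) q) M (t.base x) i =
      CurveRR.h k (Pic13.fibreMod k X q t ht M) i := by
  set s := t.base x
  let f := pullback.snd (X ↘ Spec (CommRingCat.of k)) q
  let κ := T.residueField s
  letI : (f.fiber s).Over (Spec (CommRingCat.of ↥κ)) := ⟨f.fiberToSpecResidueField s⟩
  let α : CommRingCat.of k ⟶ κ := Spec.preimage (T.fromSpecResidueField s ≫ q)
  have hα : Spec.map α = T.fromSpecResidueField s ≫ q := Spec.map_preimage _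
  letI : Algebra k κ := α.hom.toAlgebra
  have hfac := (rational_point k t ht x).2
  let γ : f.fiber s ⟶ X := f.fiberι s ≫ pullback.fst _ _
  have hγ : γ ≫ Pic13.sliceAt k X q t ht = f.fiberι s := by
    refine pullback.hom_ext ?_ ?_
    · rw [Category.assoc, Pic13.sliceAt, pullback.lift_fst, Category.comp_id]
    · rw [Category.assoc, Pic13.sliceAt, pullback.lift_snd]
      have h1 : f.fiberι s ≫ f = f.fiberToSpecResidueField s ≫ T.fromSpecResidueField s := pullback.condition
      have h2 : γ ≫ (X ↘ Spec (CommRingCat.of k)) = (f.fiberι s ≫ f) ≫ q := by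
        rw [Category.assoc, Category.assoc, pullback.condition]
      rw [← Category.assoc, h2, h1, Category.assoc, Category.assoc]
      exact congrArg (f.fiberToSpecResidueField s ≫ ·) hfac.symm
  have sq : IsPullback γ (f.fiber s ↘ Spec (CommRingCat.of ↥κ)) (X ↘ Spec (CommRingCat.of k))
      (Spec.map (CommRingCat.ofHom (algebraMap k κ))) := by
    rw [show CommRingCat.ofHom (algebraMap k κ) = α from rfl, hα]
    exact (IsPullback.of_hasPullback f (T.fromSpecResidueField s)).paste_horiz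
      (IsPullback.of_hasPullback (X ↘ Spec (CommRingCat.of k)) q)
  haveI : CompactSpace X := QuasiCompact.compactSpace_of_compactSpace (X ↘ Spec (CommRingCat.of k))
  haveI : X.IsSeparated := by
    constructor
    rw [← terminal.comp_from (X ↘ Spec (CommRingCat.of k))]
    infer_instance
  obtain ⟨e⟩ := W7Cech.nonempty_hh_flatBC k κ γ sq (Pic13.fibreMod k X q t ht M)
    (Groth.Agent.QC.isQCoh_pullback _ hM) i
  let j : (Scheme.Modules.pullback γ).obj (Pic13.fibreMod k X q t ht M) ≅ (Scheme.Modules.pullback (f.fiberι s)).obj M :=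
    (Scheme.Modules.pullbackComp γ (Pic13.sliceAt k X q t ht)).app M ≪≫ (Scheme.Modules.pullbackCongr hγ).app M
  refine (((CohFinite.hhEquiv κ j i).symm.trans e.symm).finrank_eq).trans ?_
  rw [Module.finrank_baseChange]

theorem cl_pull_twist_add {n : ℕ} (i : X ⟶ CohB1.ProjSpace n k) (d : ℤ) (a : ℕ) :
    PicF.cl ((Scheme.Modules.pullback i).obj (Twist.twistProjSpace n k d)) *
      PicF.cl ((Scheme.Modules.pullback i).obj (Twist.twistProjSpace n k 1)) ^ a =
        PicF.cl ((Scheme.Modules.pullback i).obj (Twist.twistProjSpace n k (d + a))) := by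
  obtain ⟨e⟩ := RegCx.twist_twist (k := k) (n := n) d a (d + a) rfl
  obtain ⟨t⟩ := TMul.nonempty_pullTensorIso i (Twist.twistProjSpace n k d) (Twist.twistProjSpace n k (a : ℤ))
  rw [← cl_pull_twist k i a, ← cl_tensor]
  exact (PicGrp.cl_eq_cl_iff _ _).2 ⟨t ≪≫ (Scheme.Modules.pullback i).mapIso e⟩

/-- Euler characteristics of all twists of a coherent module are the values of a polynomial. -/
theorem exists_hilbert_poly {n : ℕ} (i : X ⟶ CohB1.ProjSpace n k) {F : X.Modules} (hF : Coh.IsCoh F) :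
    ∃ φ : Polynomial ℚ, ∀ d : ℤ, (Curv2.euler k X (Pic13.twistOn k i F d) : ℚ) = φ.eval (d : ℚ) := by
  let H := (Scheme.Modules.pullback i).obj (Twist.twistProjSpace n k 1)
  have hH : PicF.IsInvertible H := PicLoc.isInvertible_pullback i (CohFinite.isInvertible_twist n k 1)
  obtain ⟨dX, hdX⟩ := exists_dim_bound k (X := X)
  have hpoly : ∀ G : X.Modules, Coh.IsCoh G → ∃ Q : Polynomial ℚ, ∀ a : ℕ,
      (Curv2.euler k X (CohB1.tensorMod G (CohB1.tensorPow H a)) : ℚ) = Q.eval (a : ℚ) := by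
    intro G hG
    obtain ⟨P, -, hP⟩ := exists_polynomial k hG (D := dX + 1)
      (lt_succ_of_le' ((topologicalKrullDim_subspace_le X _).trans hdX)) (L := fun _ : Fin 1 => H) (fun _ => hH)
    refine ⟨MvPolynomial.eval₂ Polynomial.C (fun _ => Polynomial.X) P, fun a => ?_⟩
    have hg : (Curv2.euler k X (CohB1.tensorMod G (CohB1.tensorPow H a)) : ℚ) =
        MvPolynomial.eval (fun _ => (a : ℚ)) P := by
      rw [← hP (fun _ => a), euler_congr k (show PicF.cl (CohB1.tensorMod G (CohB1.tensorPow H a)) =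
        PicF.cl (Curv2.tensorPows G 1 (fun _ => H) fun _ => a) by
          simp only [Curv2.tensorPows, cl_tensor, cl_pow])]
    rw [hg, ← Polynomial.coe_evalRingHom, MvPolynomial.eval₂_comp_left]
    show MvPolynomial.eval₂ (RingHom.id ℚ) (fun _ => (a : ℚ)) P = MvPolynomial.eval₂ _ _ P
    congr 1
    · ext a; simp
    · funext i; simp
  have hcoh : ∀ d, Coh.IsCoh (Pic13.twistOn k i F d) := fun d =>
    isCoh_twist k hF (PicLoc.isInvertible_pullback i (CohFinite.isInvertible_twist n k d))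
  have hclE : ∀ (d : ℤ) (a : ℕ),
      PicF.cl (Pic13.twistOn k i F d) * PicF.cl H ^ a = PicF.cl (Pic13.twistOn k i F (d + a)) := fun d a => by
    rw [Pic13.twistOn, Pic13.twistOn, cl_tensor, cl_tensor, mul_assoc, cl_pull_twist_add]
  obtain ⟨φ, hφ⟩ := hpoly _ (hcoh 0)
  refine ⟨φ, fun d => ?_⟩
  rcases Int.eq_nat_or_neg d with ⟨e, rfl | rfl⟩
  · rw [Int.cast_natCast, ← hφ e]
    exact congrArg _ (euler_congr k (by rw [cl_tensor, cl_pow, hclE, zero_add]))
  · obtain ⟨Q, hQ⟩ := hpoly _ (hcoh (-(e : ℤ)))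
    have hQφ : φ = Q.comp (Polynomial.X + Polynomial.C (e : ℚ)) :=
      Polynomial.eq_of_infinite_eval_eq _ _ (Set.infinite_of_injective_forall_mem
        (f := fun a : ℕ => (a : ℚ)) Nat.cast_injective fun a => by
          show φ.eval _ = (Q.comp _).eval _
          rw [← hφ a, Polynomial.eval_comp, Polynomial.eval_add, Polynomial.eval_X, Polynomial.eval_C,
            ← Nat.cast_add, ← hQ (a + e)]
          exact congrArg _ (euler_congr k (by
            rw [cl_tensor, cl_tensor, cl_pow, cl_pow, hclE, hclE]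
            congr 2
            push_cast; ring)))
    rw [hQφ, Polynomial.eval_comp, Polynomial.eval_add, Polynomial.eval_X, Polynomial.eval_C,
      show ((-(e : ℤ) : ℤ) : ℚ) + (e : ℚ) = ((0 : ℕ) : ℚ) by push_cast; ring, ← hQ 0]
    exact congrArg _ (euler_congr k (by rw [cl_tensor, cl_pow, pow_zero, mul_one]))

variable {n : ℕ} (i : X ⟶ CohB1.ProjSpace n k) [IsClosedImmersion i]
  (hi : i ≫ CohB1.ProjSpace.toSpec n k = X ↘ Spec (CommRingCat.of k))

include hi in
/-- Vanishing above the dimension of the ambient space. -/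
theorem eulerCharLE_twistOn {F : X.Modules} (hF : Coh.IsCoh F) (d : ℤ) :
    FGA.eulerCharLE k X (Pic13.twistOn k i F d) n = Curv2.euler k X (Pic13.twistOn k i F d) := by
  haveI : IsNoetherian (CohB1.ProjSpace n k) := CohFinite.isNoetherian_projSpace n k
  haveI := hF.1
  have hp : Coh.IsQCoh ((Scheme.Modules.pushforward i).obj F) :=
    (Groth.Agent.QC.isCoh_pushforward_of_isFinite i hF.2).1
  refine (CurveRR.euler_eq_sum (k := k) _ (n + 1) fun q hq => ?_).symm
  obtain ⟨e⟩ := SerrePn.nonempty_hh_pushTwist k i hi F (CohFinite.isInvertible_twist n k d) q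
  exact e.toEquiv.subsingleton_congr.2 (RegCx.hh_above _ hp d q (by omega))

include hi in
/-- Regularity is detected in degrees up to `n`. -/
theorem isMRegular_of_le {F : X.Modules} (hF : Coh.IsCoh F) (m : ℤ)
    (h : ∀ q, 1 ≤ q → q ≤ n → Subsingleton (Coh.HH X (Pic13.twistOn k i F (m - q)) q)) :
    ∀ m' : ℤ, m ≤ m' → Pic13.IsMRegular k i F m' := by
  intro m' hm' q hq
  haveI : IsNoetherian (CohB1.ProjSpace n k) := CohFinite.isNoetherian_projSpace n k
  haveI := hF.1
  have hG : Coh.IsCoh ((Scheme.Modules.pushforward i).obj F) :=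
    Groth.Agent.QC.isCoh_pushforward_of_isFinite i hF.2
  have hreg : Curv2.IsMRegular k n ((Scheme.Modules.pushforward i).obj F) m := fun p hp hpn => by
    obtain ⟨e⟩ := SerrePn.nonempty_hh_pushTwist k i hi F (CohFinite.isInvertible_twist n k (m - p)) p
    exact e.toEquiv.subsingleton_congr.1 (h p hp hpn)
  obtain ⟨e⟩ := SerrePn.nonempty_hh_pushTwist k i hi F (CohFinite.isInvertible_twist n k (m' - q)) q
  exact e.toEquiv.subsingleton_congr.2 (SerrePn.vanish_of_regular _ hG m hreg q (m' - q) hq (by omega))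

include hi in
/-- A bounded family is uniformly regular and has finitely many Hilbert polynomials. -/
theorem regular_hilb_of_bounded (P : X.Modules → Prop) (hP : ∀ F, P F → Coh.IsCoh F)
    (hb : Pic13.IsBounded k X P) :
    (∃ m : ℤ, ∀ F, P F → Pic13.IsMRegular k i F m) ∧
      ∃ s : Finset (Polynomial ℚ), ∀ F, P F → ∃ φ ∈ s, ∀ d : ℤ,
        (FGA.eulerCharLE k X (Pic13.twistOn k i F d) n : ℚ) = φ.eval (d : ℚ) := by
  classical
  obtain ⟨T, q, hlft, hqc, U, hU, hfam⟩ := hb
  haveI := hlft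
  haveI := hqc
  haveI := CurveRR.isNoetherian_of_proper k X
  obtain ⟨ι, hι, S, hS⟩ := exists_flat_strata k q U hU
  haveI := Fintype.ofFinite ι
  let x₀ : ↑(Spec (CommRingCat.of k)) := (⊥ : PrimeSpectrum k)
  -- twisted families
  let Gd : ∀ (a : ι) (_ : ℤ), (Pic13.prodK k X (S a).q).Modules := fun a d =>
    CohB1.tensorMod ((Scheme.Modules.pullback (pullback.fst (X ↘ Spec (CommRingCat.of k)) (S a).q)).obj
      ((Scheme.Modules.pullback i).obj (Twist.twistProjSpace n k d))) (S a).G
  have hE : ∀ (a : ι) (d : ℤ), PicF.IsInvertible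
      ((Scheme.Modules.pullback (pullback.fst (X ↘ Spec (CommRingCat.of k)) (S a).q)).obj
        ((Scheme.Modules.pullback i).obj (Twist.twistProjSpace n k d))) := fun a d =>
    PicLoc.isInvertible_pullback _ (PicLoc.isInvertible_pullback i (CohFinite.isInvertible_twist n k d))
  have hfib : ∀ (a : ι) (d : ℤ) (t : Spec (CommRingCat.of k) ⟶ (S a).W) (ht : t ≫ (S a).q = 𝟙 _) (F : X.Modules),
      Nonempty (Pic13.fibreMod k X (S a).q t ht (S a).G ≅ F) →
      Nonempty (Pic13.fibreMod k X (S a).q t ht (Gd a d) ≅ Pic13.twistOn k i F d) := by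
    rintro a d t ht F ⟨e⟩
    let p := pullback.fst (X ↘ Spec (CommRingCat.of k)) (S a).q
    let σ := Pic13.sliceAt k X (S a).q t ht
    obtain ⟨c⟩ := TMul.nonempty_pullTensorIso σ
      ((Scheme.Modules.pullback p).obj ((Scheme.Modules.pullback i).obj (Twist.twistProjSpace n k d))) (S a).G
    have hs : σ ≫ p = 𝟙 X := pullback.lift_fst _ _ _
    exact ⟨c.symm ≪≫ PicGrp.tensorModIso ((Scheme.Modules.pullbackComp _ p).app _ ≪≫
      (Scheme.Modules.pullbackCongr hs).app _ ≪≫ (Scheme.Modules.pullbackId X).app _) e ≪≫ TMul.commIso _ _⟩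
  have hGd : ∀ (a : ι) (d : ℤ), Coh.IsCoh (Gd a d) ∧ CohB1.IsFP (Gd a d) ∧
      FlatMod.IsFlatOver (pullback.snd (X ↘ Spec (CommRingCat.of k)) (S a).q) (Gd a d) := fun a d => by
    haveI := (S a).lft
    haveI : IsLocallyNoetherian (Pic13.prodK k X (S a).q) :=
      LocallyOfFiniteType.isLocallyNoetherian (pullback.fst (X ↘ Spec (CommRingCat.of k)) (S a).q)
    have h1 : Coh.IsCoh (Gd a d) := CurveRR.isCoh_tensor' (CurveRR.isCoh_of_inv (hE a d)) (S a).coh
    haveI := h1.1
    exact ⟨h1, Groth.Agent.QC.isFP_of_isQCoh_of_isFT h1.2,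
      fun z => flatOver_tensor _ (isFlatAt_invertible (hE a d) z) ((S a).flat z)⟩
  have hbetti : ∀ (a : ι) (d : ℤ) (p : ℕ) (t : Spec (CommRingCat.of k) ⟶ (S a).W) (ht : t ≫ (S a).q = 𝟙 _)
      (F : X.Modules), Nonempty (Pic13.fibreMod k X (S a).q t ht (S a).G ≅ F) →
      PerfAux.betti (pullback.snd (X ↘ Spec (CommRingCat.of k)) (S a).q) (Gd a d) (t.base x₀) p =
        CurveRR.h k (Pic13.twistOn k i F d) p := fun a d p t ht F h => by
    rw [betti_fibreMod k t ht x₀ (hGd a d).1.1 p]
    exact CurveRR.h_eq_of_iso (hfib a d t ht F h).some p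
  constructor
  · -- open loci of regularity
    have key : ∀ a : ι, ∃ M : ℕ, ∀ (t : Spec (CommRingCat.of k) ⟶ (S a).W) (ht : t ≫ (S a).q = 𝟙 _) (F : X.Modules),
        P F → Nonempty (Pic13.fibreMod k X (S a).q t ht (S a).G ≅ F) → Pic13.IsMRegular k i F (M : ℤ) := by
      intro a
      haveI := (S a).lft
      haveI := (S a).qc
      haveI : IsLocallyNoetherian (S a).W := LocallyOfFiniteType.isLocallyNoetherian (S a).q
      haveI : CompactSpace (S a).W := QuasiCompact.compactSpace_of_compactSpace (S a).q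
      haveI : IsNoetherian (S a).W := {}
      haveI : IsLocallyNoetherian (S a).W := LocallyOfFiniteType.isLocallyNoetherian (S a).q
      let V : ℕ → Set (S a).W := fun m => ⋂ p ∈ Finset.Icc 1 n,
        {s | PerfAux.betti (pullback.snd (X ↘ Spec (CommRingCat.of k)) (S a).q) (Gd a ((m : ℤ) - p)) s p < 1}
      have hV : ∀ m, IsOpen (V m) := fun m => isOpen_biInter_finset fun p _ =>
        BettiNN.isOpen_betti_lt _ (hGd a _).2.1 (hGd a _).2.2 p 1
      obtain ⟨t₀, ht₀⟩ := (NoetherianSpace.isCompact (⋃ m, V m)).elim_finite_subcover V hV subset_rfl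
      refine ⟨t₀.sup id, fun t ht F hPF h => ?_⟩
      have hFc := hP F hPF
      haveI hG := hFc.1
      obtain ⟨m, hm⟩ := exists_regular k i hi hFc
      have hm1 : Pic13.IsMRegular k i F (m : ℤ) := fun q hq =>
        CohQC.hh_subsingleton_of_iso (PicGrp.tensorModIso (TMul.commIso F (Coh.structureModule X) ≪≫
          TMul.leftUnitIso F) (Iso.refl _)) q (hm _ TMul.isInvertible_structureModule (degFlat_one k) q hq)
      have hmem : t.base x₀ ∈ ⋃ m, V m := Set.mem_iUnion.2 ⟨m, Set.mem_iInter₂.2 fun p hp => by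
        show _ < 1
        rw [hbetti a _ p t ht F h]
        have := hm1 p (Finset.mem_Icc.1 hp).1
        rw [CurveRR.h_eq_zero this]
        exact Nat.one_pos⟩
      obtain ⟨m', hm', hmem'⟩ := Set.mem_iUnion₂.1 (ht₀ hmem)
      refine isMRegular_of_le k i hi hFc (m' : ℤ) (fun p hp hpn => ?_) _
        (by exact_mod_cast Finset.le_sup (f := id) hm')
      have h1 := Set.mem_iInter₂.1 hmem' p (Finset.mem_Icc.2 ⟨hp, hpn⟩)
      change _ < 1 at h1
      rw [hbetti a _ p t ht F h, Nat.lt_one_iff] at h1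
      haveI : Module.Finite k (Coh.HH X (Pic13.twistOn k i F ((m' : ℤ) - p)) p) :=
        Groth.Agent.CohFinite.finite_proper k X _
          (isCoh_twist k hFc (PicLoc.isInvertible_pullback i (CohFinite.isInvertible_twist n k _))) p
      exact Module.finrank_zero_iff.1 h1
    choose M hM using key
    refine ⟨((Finset.univ.sup M : ℕ) : ℤ), fun F hF => ?_⟩
    obtain ⟨t, ht, ⟨e⟩⟩ := hfam F hF
    obtain ⟨a, τ, hτ, ⟨e'⟩⟩ := hS t ht
    have hr := hM a τ hτ F hF ⟨e' ≪≫ e⟩
    exact isMRegular_of_le k i hi (hP F hF) _ (fun p hp _ => hr p hp) _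
      (by exact_mod_cast Finset.le_sup (f := M) (Finset.mem_univ a))
  · let κ := {a : ι // ∃ F, (S a).Has F}
    have hpol : ∀ a : κ, ∃ φ : Polynomial ℚ, ∀ F, Coh.IsCoh F → (S a.1).Has F → ∀ d : ℤ,
        (FGA.eulerCharLE k X (Pic13.twistOn k i F d) n : ℚ) = φ.eval (d : ℚ) := by
      rintro ⟨a, F₀, t₀, ht₀, h₀⟩
      haveI := (S a).lft
      haveI := (S a).qc
      haveI := (S a).integral
      haveI : IsLocallyNoetherian (Pic13.prodK k X (S a).q) :=
        LocallyOfFiniteType.isLocallyNoetherian (pullback.fst (X ↘ Spec (CommRingCat.of k)) (S a).q)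
      obtain ⟨φ, hφ⟩ := exists_hilbert_poly k i (F := Pic13.fibreMod k X (S a).q t₀ ht₀ (S a).G)
        (Groth.Agent.QC.isCoh_pullback _ (S a).coh)
      refine ⟨φ, fun F hF ⟨t, ht, h⟩ d => ?_⟩
      rw [eulerCharLE_twistOn k i hi hF d, ← hφ d]
      haveI : IsLocallyNoetherian (S a).W := LocallyOfFiniteType.isLocallyNoetherian (S a).q
      have hlc := Groth.Agent.BettiNN.isLocallyConstant_eulerChar
        (pullback.snd (X ↘ Spec (CommRingCat.of k)) (S a).q) (hGd a d).2.1 (hGd a d).2.2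
      have h1 := hlc.apply_eq_of_preconnectedSpace (t.base x₀) (t₀.base x₀)
      rw [eulerChar_fibreMod k t ht x₀ (hGd a d).1.1, eulerChar_fibreMod k t₀ ht₀ x₀ (hGd a d).1.1,
        CurveRR.euler_eq_of_iso (hfib a d t ht F h).some,
        CurveRR.euler_eq_of_iso (hfib a d t₀ ht₀ _ ⟨Iso.refl _⟩).some] at h1
      exact_mod_cast h1
    choose φ hφ using hpol
    refine ⟨(Finset.univ : Finset κ).image φ, fun F hF => ?_⟩
    obtain ⟨t, ht, ⟨e⟩⟩ := hfam F hF
    obtain ⟨a, τ, hτ, ⟨e'⟩⟩ := hS t ht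
    exact ⟨φ ⟨a, F, τ, hτ, ⟨e' ≪≫ e⟩⟩, Finset.mem_image_of_mem _ (Finset.mem_univ _),
      hφ ⟨a, F, τ, hτ, ⟨e' ≪≫ e⟩⟩ F (hP F hF) ⟨τ, hτ, ⟨e' ≪≫ e⟩⟩⟩

end Groth.Agent.PicBdd
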