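import Groth.Agent.PicBdd.TauBdd
import Groth.Agent.GrothSS.ChangeRings
import Groth.Agent.GrT.Vanish
import Groth.Agent.CurveRR.Pencil

/-!
Finite unions of bounded families are bounded.
-/

set_option autoImplicit false
set_option linter.unusedSectionVars false
set_option linter.style.haveILetI false
set_option backward.isDefEq.respectTransparency false
set_option backward.isDefEq.respectTransparency.types false

universe u

open CategoryTheory CategoryTheory.Limits AlgebraicGeometry TopologicalSpace Opposite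

noncomputable section

namespace Groth.Agent.PicBdd

attribute [local instance] Abelian.hasFiniteBiproducts

/-- Restricting a direct image to a disjoint open gives zero. -/
theorem isZero_pullback_push_of_disjoint {A B Z : Scheme.{u}} (f : A ⟶ Z) [IsOpenImmersion f] (g : B ⟶ Z)
    (h : ∀ a b, f.base a ≠ g.base b) (G : B.Modules) :
    IsZero ((Scheme.Modules.pullback f).obj ((Scheme.Modules.pushforward g).obj G)) := by
  refine IsZero.of_iso ?_ ((Scheme.Modules.restrictFunctorIsoPullback f).app _).symm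
  refine GrT.isZero_modules_of_subsingleton fun U s => ?_
  have hb : g ⁻¹ᵁ (f ''ᵁ U) = ⊥ := SetLike.ext' (Set.eq_empty_of_forall_notMem fun b hb => by
    obtain ⟨a, -, ha⟩ := hb
    exact h a b ha)
  haveI : Subsingleton Γ(G, g ⁻¹ᵁ (f ''ᵁ U)) := by
    rw [hb]
    exact AddCommGrpCat.subsingleton_of_isZero ((TopCat.Sheaf.isTerminalOfEmpty ⟨G.presheaf, G.isSheaf⟩).isZero)
  exact Subsingleton.elim (α := Γ(G, g ⁻¹ᵁ (f ''ᵁ U))) _ _

/-- The two open pieces of a biproduct of direct images. -/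
theorem nonempty_pullback_biprod_left {A B Z : Scheme.{u}} (f : A ⟶ Z) [IsOpenImmersion f] [IsClosedImmersion f]
    (g : B ⟶ Z) (h : ∀ a b, f.base a ≠ g.base b) (F : A.Modules) (G : B.Modules) :
    Nonempty ((Scheme.Modules.pullback f).obj
      ((Scheme.Modules.pushforward f).obj F ⊞ (Scheme.Modules.pushforward g).obj G) ≅ F) := by
  haveI := GrothSS.isIso_counit_push f
  haveI : PreservesBinaryBiproducts (Scheme.Modules.pullback f) :=
    preservesBinaryBiproducts_of_preservesBinaryCoproducts _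
  exact ⟨(Scheme.Modules.pullback f).mapBiprod _ _ ≪≫
    (isoBiprodZero (isZero_pullback_push_of_disjoint f g h G)).symm ≪≫
    (asIso (Scheme.Modules.pullbackPushforwardAdjunction f).counit).app F⟩

theorem nonempty_pullback_biprod_right {A B Z : Scheme.{u}} (f : A ⟶ Z) [IsOpenImmersion f] [IsClosedImmersion f]
    (g : B ⟶ Z) (h : ∀ a b, f.base a ≠ g.base b) (F : A.Modules) (G : B.Modules) :
    Nonempty ((Scheme.Modules.pullback f).obj
      ((Scheme.Modules.pushforward g).obj G ⊞ (Scheme.Modules.pushforward f).obj F) ≅ F) := by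
  obtain ⟨e⟩ := nonempty_pullback_biprod_left f g h F G
  exact ⟨(Scheme.Modules.pullback f).mapIso (biprod.braiding _ _) ≪≫ e⟩

variable (k : Type u) [Field k] {X : Scheme.{u}} [X.Over (Spec (CommRingCat.of k))]

theorem isPullback_prodMap {T Z : Scheme.{u}} {q : T ⟶ Spec (CommRingCat.of k)} (j : Z ⟶ T)
    {q' : Z ⟶ Spec (CommRingCat.of k)} (hq : j ≫ q = q') :
    IsPullback (prodMap (X := X) k j hq) (pullback.snd _ q') (pullback.snd _ q) j := by
  subst hq
  refine IsPullback.of_right ?_ (by simp [prodMap]) (IsPullback.of_hasPullback _ _)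
  simpa [prodMap] using IsPullback.of_hasPullback (X ↘ Spec (CommRingCat.of k)) (j ≫ q)

/-- A subfamily of a bounded family is bounded. -/
theorem isBounded_mono {P Q : X.Modules → Prop} (hb : Pic13.IsBounded k X Q) (h : ∀ F, P F → Q F) :
    Pic13.IsBounded k X P := by
  obtain ⟨T, q, hq, hqc, U, hU, hfam⟩ := hb
  exact ⟨T, q, hq, hqc, U, hU, fun F hF => hfam F (h F hF)⟩

/-- The empty family is bounded. -/
theorem isBounded_false [LocallyOfFiniteType (X ↘ Spec (CommRingCat.of k))] [QuasiCompact (X ↘ Spec (CommRingCat.of k))] :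
    Pic13.IsBounded k X (fun _ => False) := by
  haveI : IsLocallyNoetherian (Pic13.prodK k X (𝟙 (Spec (CommRingCat.of k)))) :=
    LocallyOfFiniteType.isLocallyNoetherian (pullback.snd (X ↘ Spec (CommRingCat.of k)) _)
  exact ⟨_, 𝟙 _, inferInstance, inferInstance, Coh.structureModule _,
    CurveRR.isCoh_of_inv (TMul.isInvertible_structureModule (X := _)), fun _ h => h.elim⟩

/-- The union of two bounded families is bounded. -/
theorem isBounded_or [LocallyOfFiniteType (X ↘ Spec (CommRingCat.of k))] {P Q : X.Modules → Prop}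
    (hP : Pic13.IsBounded k X P) (hQ : Pic13.IsBounded k X Q) :
    Pic13.IsBounded k X (fun F => P F ∨ Q F) := by
  obtain ⟨T₁, q₁, h₁, hc₁, U₁, hU₁, f₁⟩ := hP
  obtain ⟨T₂, q₂, h₂, hc₂, U₂, hU₂, f₂⟩ := hQ
  let q : T₁ ⨿ T₂ ⟶ Spec (CommRingCat.of k) := coprod.desc q₁ q₂
  have hl : (coprod.inl : T₁ ⟶ T₁ ⨿ T₂) ≫ q = q₁ := coprod.inl_desc _ _
  have hr : (coprod.inr : T₂ ⟶ T₁ ⨿ T₂) ≫ q = q₂ := coprod.inr_desc _ _
  haveI hlft : LocallyOfFiniteType q := by
    refine (IsZariskiLocalAtSource.iff_of_openCover (P := @LocallyOfFiniteType) (coprodOpenCover.{u, u} T₁ T₂)).2 ?_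
    rintro (x | x)
    · show LocallyOfFiniteType (coprod.inl ≫ q); rw [hl]; exact h₁
    · show LocallyOfFiniteType (coprod.inr ≫ q); rw [hr]; exact h₂
  haveI hqc : QuasiCompact q := by
    haveI : CompactSpace T₁ := QuasiCompact.compactSpace_of_compactSpace q₁
    haveI : CompactSpace T₂ := QuasiCompact.compactSpace_of_compactSpace q₂
    haveI : CompactSpace ↥(T₁ ⨿ T₂) := (coprodMk T₁ T₂).compactSpace
    exact (quasiCompact_iff_compactSpace (f := q)).2 inferInstance
  have hcompl := isCompl_range_inl_inr T₁ T₂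
  haveI : IsClosedImmersion (coprod.inl : T₁ ⟶ T₁ ⨿ T₂) := .of_isPreimmersion _ (by
    rw [show Set.range (coprod.inl : T₁ ⟶ T₁ ⨿ T₂) = (Set.range (coprod.inr : T₂ ⟶ T₁ ⨿ T₂))ᶜ from hcompl.eq_compl]
    exact (Scheme.Hom.opensRange (coprod.inr : T₂ ⟶ T₁ ⨿ T₂)).2.isClosed_compl)
  haveI : IsClosedImmersion (coprod.inr : T₂ ⟶ T₁ ⨿ T₂) := .of_isPreimmersion _ (by
    rw [show Set.range (coprod.inr : T₂ ⟶ T₁ ⨿ T₂) = (Set.range (coprod.inl : T₁ ⟶ T₁ ⨿ T₂))ᶜ from hcompl.symm.eq_compl]
    exact (Scheme.Hom.opensRange (coprod.inl : T₁ ⟶ T₁ ⨿ T₂)).2.isClosed_compl)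
  let j₁ := prodMap (X := X) k coprod.inl hl
  let j₂ := prodMap (X := X) k coprod.inr hr
  haveI : IsOpenImmersion j₁ := MorphismProperty.of_isPullback (P := @IsOpenImmersion) (isPullback_prodMap k _ hl).flip inferInstance
  haveI : IsOpenImmersion j₂ := MorphismProperty.of_isPullback (P := @IsOpenImmersion) (isPullback_prodMap k _ hr).flip inferInstance
  haveI : IsClosedImmersion j₁ := MorphismProperty.of_isPullback (P := @IsClosedImmersion) (isPullback_prodMap k _ hl).flip inferInstance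
  haveI : IsClosedImmersion j₂ := MorphismProperty.of_isPullback (P := @IsClosedImmersion) (isPullback_prodMap k _ hr).flip inferInstance
  have hdis : ∀ a b, j₁.base a ≠ j₂.base b := fun a b hab => by
    have h1 := congrArg (fun z => (pullback.snd (X ↘ Spec (CommRingCat.of k)) q).base z) hab
    rw [← Scheme.Hom.comp_apply, ← Scheme.Hom.comp_apply, (isPullback_prodMap k _ hl).w,
      (isPullback_prodMap k _ hr).w, Scheme.Hom.comp_apply, Scheme.Hom.comp_apply] at h1
    exact Set.disjoint_iff_forall_ne.mp hcompl.disjoint ⟨_, rfl⟩ ⟨_, rfl⟩ h1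
  haveI : IsLocallyNoetherian (Pic13.prodK k X q) :=
    LocallyOfFiniteType.isLocallyNoetherian (pullback.snd (X ↘ Spec (CommRingCat.of k)) q ≫ q)
  haveI := hU₁.1
  haveI := hU₂.1
  have hc₁' := Groth.Agent.QC.isCoh_pushforward_of_isFinite j₁ hU₁.2 (M := U₁)
  have hc₂' := Groth.Agent.QC.isCoh_pushforward_of_isFinite j₂ hU₂.2 (M := U₂)
  refine ⟨_, q, hlft, hqc, (Scheme.Modules.pushforward j₁).obj U₁ ⊞ (Scheme.Modules.pushforward j₂).obj U₂,
    CurveRR.isCoh_biprod2 hc₁' hc₂', fun F hF => ?_⟩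
  rcases hF with hF | hF
  · obtain ⟨t, ht, ⟨e⟩⟩ := f₁ F hF
    have ht' : (t ≫ coprod.inl) ≫ q = 𝟙 _ := by rw [Category.assoc, hl, ht]
    obtain ⟨a⟩ := nonempty_fibreMod_pullback (X := X) k coprod.inl hl t ht ht'
      ((Scheme.Modules.pushforward j₁).obj U₁ ⊞ (Scheme.Modules.pushforward j₂).obj U₂)
    obtain ⟨b⟩ := nonempty_pullback_biprod_left j₁ j₂ hdis U₁ U₂
    exact ⟨_, ht', ⟨a.symm ≪≫ (Scheme.Modules.pullback _).mapIso b ≪≫ e⟩⟩
  · obtain ⟨t, ht, ⟨e⟩⟩ := f₂ F hF
    have ht' : (t ≫ coprod.inr) ≫ q = 𝟙 _ := by rw [Category.assoc, hr, ht]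
    obtain ⟨a⟩ := nonempty_fibreMod_pullback (X := X) k coprod.inr hr t ht ht'
      ((Scheme.Modules.pushforward j₁).obj U₁ ⊞ (Scheme.Modules.pushforward j₂).obj U₂)
    obtain ⟨b⟩ := nonempty_pullback_biprod_right j₂ j₁ (fun b a h => hdis a b h.symm) U₂ U₁
    exact ⟨_, ht', ⟨a.symm ≪≫ (Scheme.Modules.pullback _).mapIso b ≪≫ e⟩⟩

/-- A finite union of bounded families is bounded. -/
theorem isBounded_finset [LocallyOfFiniteType (X ↘ Spec (CommRingCat.of k))] [QuasiCompact (X ↘ Spec (CommRingCat.of k))]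
    {ι : Type*} (s : Finset ι) (P : ι → X.Modules → Prop) (h : ∀ i ∈ s, Pic13.IsBounded k X (P i)) :
    Pic13.IsBounded k X (fun F => ∃ i ∈ s, P i F) := by
  classical
  induction s using Finset.induction_on with
  | empty => exact isBounded_mono k (isBounded_false k) fun F ⟨i, hi, _⟩ => (Finset.notMem_empty i hi).elim
  | insert a s _ ih =>
    refine isBounded_mono k (isBounded_or k (h a (Finset.mem_insert_self a s))
      (ih fun i hi => h i (Finset.mem_insert_of_mem hi))) fun F ⟨i, hi, hF⟩ => ?_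
    rcases Finset.mem_insert.1 hi with rfl | hi
    · exact Or.inl hF
    · exact Or.inr ⟨i, hi, hF⟩

end Groth.Agent.PicBdd

end
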