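import Groth.Agent.RefStalk.RankOne
import Groth.Agent.LocFree.Props
import Groth.Agent.LocFree.Rank
import Groth.Agent.FlatRes.FibreFree
import Groth.Agent.FibCrit.Stalk
import Groth.Agent.KFlat.Pullback
import Groth.Agent.RefDiv.Lat
import Groth.Agent.CohFinite.RPushCoh

/-!
The locus where a coherent module is free of rank one, and the criterion by fibres.
-/

set_option autoImplicit false
set_option linter.unusedSectionVars false
set_option linter.style.haveILetI false
set_option backward.isDefEq.respectTransparency false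

universe u

open CategoryTheory CategoryTheory.Limits AlgebraicGeometry TopologicalSpace Opposite
open TensorProduct

noncomputable section

namespace Groth.Agent.PicBdd

variable {P : Scheme.{u}}

/-- The stalk is free of rank one. -/
def Free1 (G : P.Modules) (x : P) : Prop :=
  Nonempty (G.presheaf.stalk x ≃ₗ[P.presheaf.stalk x] P.presheaf.stalk x)

theorem free1_of_isInvertible {G : P.Modules} (h : PicF.IsInvertible G) (x : P) : Free1 G x := by
  obtain ⟨U, e, hxU, he⟩ := TMul.exists_isGen h x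
  exact ⟨(LinearEquiv.ofBijective (LinearMap.toSpanSingleton _ _ (Groth.Agent.WeakAssLib.mgerm G hxU e))
    (RefDiv.bijective_germ_of_isGen he hxU)).symm⟩

/-- The locus of rank-one freeness is open. -/
theorem isOpen_free1 [IsLocallyNoetherian P] {G : P.Modules} (hG : Coh.IsCoh G) :
    IsOpen {x | Free1 G x} := by
  classical
  haveI := hG.1
  refine isOpen_iff_forall_mem_open.2 fun x ⟨ex⟩ => ?_
  obtain ⟨U, hU, hxU⟩ := Groth.Agent.QC.exists_affine_mem x
  haveI := LocFree.finitePresentation_sections_of_isFP hG.1 (Groth.Agent.QC.isFP_of_isQCoh_of_isFT hG.2) hU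
  letI := (P.presheaf.germ U x hxU).hom.toAlgebra
  haveI := hU.isLocalization_stalk ⟨x, hxU⟩
  obtain ⟨g, hg⟩ := LocFree.exists_stalkMap hU hG.1 hxU
  letI := Module.compHom (G.presheaf.stalk x) (P.presheaf.germ U x hxU).hom
  haveI : IsScalarTower Γ(P, U) (P.presheaf.stalk x) (G.presheaf.stalk x) :=
    ⟨fun a c m => mul_smul ((P.presheaf.germ U x hxU).hom a) c m⟩
  haveI := hg
  let S := (hU.primeIdealOf ⟨x, hxU⟩).asIdeal.primeCompl
  haveI : Module.Free (P.presheaf.stalk x) (G.presheaf.stalk x) :=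
    Module.Free.of_equiv ex.symm
  obtain ⟨r, hr, hr', -⟩ := Module.FinitePresentation.exists_free_localizedModule_powers S g (P.presheaf.stalk x)
  obtain ⟨hf1, hf2⟩ := LocFree.free_finite_basicOpen hG.1 hU r (M := G)
  have hD := hU.basicOpen r
  have hxD : x ∈ P.basicOpen r :=
    (P.mem_basicOpen r x hxU).2 (IsLocalization.map_units (P.presheaf.stalk x) (⟨r, hr⟩ : S))
  refine ⟨(P.basicOpen r : Set P), fun y hy => ?_, (P.basicOpen r).2, hxD⟩
  let b := Module.Free.chooseBasis Γ(P, P.basicOpen r) Γ(G, P.basicOpen r)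
  have key : ∀ (z : P) (hz : z ∈ P.basicOpen r),
      Nonempty (Module.Basis (Module.Free.ChooseBasisIndex Γ(P, P.basicOpen r) Γ(G, P.basicOpen r))
        (P.presheaf.stalk z) (G.presheaf.stalk z)) := fun z hz => by
    letI := (P.presheaf.germ (P.basicOpen r) z hz).hom.toAlgebra
    haveI := hD.isLocalization_stalk ⟨z, hz⟩
    obtain ⟨g', hg'⟩ := LocFree.exists_stalkMap hD hG.1 hz
    letI := Module.compHom (G.presheaf.stalk z) (P.presheaf.germ (P.basicOpen r) z hz).hom
    haveI : IsScalarTower Γ(P, P.basicOpen r) (P.presheaf.stalk z) (G.presheaf.stalk z) :=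
      ⟨fun a c m => mul_smul ((P.presheaf.germ (P.basicOpen r) z hz).hom a) c m⟩
    haveI := hg'
    exact ⟨b.ofIsLocalizedModule (P.presheaf.stalk z)
      (hD.primeIdealOf ⟨z, hz⟩).asIdeal.primeCompl g'⟩
  obtain ⟨bx⟩ := key x hxD
  obtain ⟨bz⟩ := key y hy
  have hcard : Fintype.card (Module.Free.ChooseBasisIndex Γ(P, P.basicOpen r) Γ(G, P.basicOpen r)) = 1 := by
    rw [← Module.finrank_eq_card_basis bx, ex.finrank_eq, Module.finrank_self]
  haveI : Unique (Module.Free.ChooseBasisIndex Γ(P, P.basicOpen r) Γ(G, P.basicOpen r)) :=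
    (Fintype.equivFinOfCardEq hcard).unique
  exact ⟨bz.repr ≪≫ₗ Finsupp.LinearEquiv.finsuppUnique _ _ _⟩

/-- Pulled back along a morphism landing in the free locus, the module is invertible. -/
theorem isInvertible_pullback_of_free1 {Q : Scheme.{u}} [IsLocallyNoetherian P] (g : Q ⟶ P) {G : P.Modules}
    (hG : Coh.IsCoh G) (h : ∀ z : Q, Free1 G (g.base z)) :
    PicF.IsInvertible ((Scheme.Modules.pullback g).obj G) := by
  have hc := Groth.Agent.QC.isCoh_pullback g hG
  refine RefStalk.isInvertible_of_stalk_equiv hc.1 hc.2 fun z => ?_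
  obtain ⟨e⟩ := h z
  let e1 := ((KFlat.pullStalkIso g z).app G).toLinearEquiv
  let φ := (g.stalkMap z).hom
  letI : Algebra (P.presheaf.stalk (g.base z)) (Q.presheaf.stalk z) := φ.toAlgebra
  let e2 : Q.presheaf.stalk z ⊗[P.presheaf.stalk (g.base z)] G.presheaf.stalk (g.base z) ≃ₗ[Q.presheaf.stalk z]
      Q.presheaf.stalk z :=
    TensorProduct.AlgebraTensorModule.congr (LinearEquiv.refl (Q.presheaf.stalk z) (Q.presheaf.stalk z)) e ≪≫ₗ
      TensorProduct.AlgebraTensorModule.rid (P.presheaf.stalk (g.base z)) (Q.presheaf.stalk z) (Q.presheaf.stalk z)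
  exact ⟨e1.trans e2⟩

/-- Freeness of rank one from the fibre and flatness. -/
theorem free1_of_fibre {T : Scheme.{u}} [IsLocallyNoetherian P] (f : P ⟶ T) {G : P.Modules}
    (hG : Coh.IsCoh G) (s : T) (y : ↥(f.fiber s)) (hflat : FlatMod.IsFlatOverAt f G ((f.fiberι s).base y))
    (hinv : PicF.IsInvertible ((Scheme.Modules.pullback (f.fiberι s)).obj G)) :
    Free1 G ((f.fiberι s).base y) := by
  classical
  haveI := hG.1
  set x := (f.fiberι s).base y with hxdef
  obtain ⟨U, hU, hxU⟩ := Groth.Agent.QC.exists_affine_mem x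
  haveI := LocFree.finitePresentation_sections_of_isFP hG.1 (Groth.Agent.QC.isFP_of_isQCoh_of_isFT hG.2) hU
  let A := ↑(T.presheaf.stalk (f x))
  let B := ↑(P.presheaf.stalk x)
  let N := ↑(G.presheaf.stalk x)
  letI : Algebra A B := (f.stalkMap x).hom.toAlgebra
  letI : Module A N := FlatMod.moduleStalkOver f G x
  haveI : IsScalarTower A B N := IsScalarTower.of_algebraMap_smul fun a m => rfl
  haveI : Module.Flat A N := hflat
  letI := (P.presheaf.germ U x hxU).hom.toAlgebra
  haveI := hU.isLocalization_stalk ⟨x, hxU⟩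
  obtain ⟨g, hg⟩ := LocFree.exists_stalkMap hU hG.1 hxU
  letI := Module.compHom N (P.presheaf.germ U x hxU).hom
  haveI : IsScalarTower Γ(P, U) B N := ⟨fun a c m => mul_smul ((P.presheaf.germ U x hxU).hom a) c m⟩
  haveI := hg
  haveI : Module.FinitePresentation B N :=
    FinitePresentation.of_isBaseChange g
      ((isLocalizedModule_iff_isBaseChange (hU.primeIdealOf ⟨x, hxU⟩).asIdeal.primeCompl B g).mp hg)
  let 𝔞 : Ideal B := (IsLocalRing.maximalIdeal A).map (algebraMap A B)
  let O := ↑((f.fiber s).presheaf.stalk y)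
  letI : Algebra B O := ((f.fiberι s).stalkMap y).hom.toAlgebra
  obtain ⟨hsur, hker⟩ := FibCrit.fiberι_stalkMap f s y
  have hker' : RingHom.ker (algebraMap B O) = 𝔞 := hker
  haveI : IsLocalHom (algebraMap A B) := inferInstanceAs (IsLocalHom (f.stalkMap x).hom)
  have hle : 𝔞 ≤ IsLocalRing.maximalIdeal B := Ideal.map_le_iff_le_comap.2 fun a ha =>
    (IsLocalRing.mem_maximalIdeal _).2 fun hu => (IsLocalRing.mem_maximalIdeal a).1 ha (IsUnit.of_map _ a hu)
  let q : (B ⧸ 𝔞) ≃ₗ[B] O :=
    (Submodule.quotEquivOfEq 𝔞 (LinearMap.ker (Algebra.linearMap B O)) (by rw [← hker']; rfl)).trans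
      ((Algebra.linearMap B O).quotKerEquivOfSurjective hsur)
  obtain ⟨e0⟩ := free1_of_isInvertible hinv y
  let e1 : (O ⊗[B] N) ≃ₗ[O] O := (((KFlat.pullStalkIso (f.fiberι s) y).app G).toLinearEquiv).symm ≪≫ₗ e0
  let e2 : ((B ⧸ 𝔞) ⊗[B] N) ≃ₗ[B] (B ⧸ 𝔞) :=
    TensorProduct.congr q (LinearEquiv.refl B N) ≪≫ₗ e1.restrictScalars B ≪≫ₗ q.symm
  let e3 : ((B ⧸ 𝔞) ⊗[B] N) ≃ₗ[B ⧸ 𝔞] (B ⧸ 𝔞) :=
    LinearEquiv.extendScalarsOfSurjective (R := B) Ideal.Quotient.mk_surjective e2
  haveI : Nontrivial (B ⧸ 𝔞) := Ideal.Quotient.nontrivial_iff.2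
    fun e => (IsLocalRing.maximalIdeal.isMaximal B).ne_top (top_le_iff.1 (e ▸ hle))
  haveI := FlatRes.free_of_fibre_free (A := A) (S := B) (N := N) (IsLocalRing.maximalIdeal A) hle
    (Module.Free.of_equiv e3.symm)
  let b := Module.Free.chooseBasis B N
  have hcard : Fintype.card (Module.Free.ChooseBasisIndex B N) = 1 := by
    rw [← Module.finrank_eq_card_basis (b.baseChange (B ⧸ 𝔞)), e3.finrank_eq, Module.finrank_self]
  haveI : Unique (Module.Free.ChooseBasisIndex B N) := (Fintype.equivFinOfCardEq hcard).unique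
  exact ⟨b.repr ≪≫ₗ Finsupp.LinearEquiv.finsuppUnique _ _ _⟩

end Groth.Agent.PicBdd
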