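import Groth.Agent.PicBdd.Hilb

/-!
Members of a bounded family are quotients of a fixed sum of twists.
-/

set_option autoImplicit false
set_option linter.unusedSectionVars false
set_option linter.style.haveILetI false
set_option backward.isDefEq.respectTransparency false

universe u

open CategoryTheory CategoryTheory.Limits AlgebraicGeometry TopologicalSpace Opposite
open Groth.Agent.Intersect Groth.Agent.Nakai

noncomputable section

namespace Groth.Agent.PicBdd

attribute [local instance] Abelian.hasFiniteBiproducts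

variable (k : Type u) [Field k] {X : Scheme.{u}} [X.Over (Spec (CommRingCat.of k))]
  [IsProper (X ↘ Spec (CommRingCat.of k))] {n : ℕ} (i : X ⟶ CohB1.ProjSpace n k) [IsClosedImmersion i]
  (hi : i ≫ CohB1.ProjSpace.toSpec n k = X ↘ Spec (CommRingCat.of k))

include hi in
theorem exists_epi_of_bounded (P : X.Modules → Prop) (hP : ∀ F, P F → Coh.IsCoh F)
    (hb : Pic13.IsBounded k X P) :
    ∃ (m : ℤ) (N : ℕ) (E : X.Modules) (c : Fin N → (Pic13.twistOn k i (Coh.structureModule X) (-m) ⟶ E)),
      Nonempty (IsColimit (Cofan.mk E c)) ∧ ∀ F, P F → ∃ p : E ⟶ F, Epi p := by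
  classical
  haveI := CurveRR.isNoetherian_of_proper k X
  haveI : IsNoetherian (CohB1.ProjSpace n k) := CohFinite.isNoetherian_projSpace n k
  obtain ⟨⟨m, hm⟩, s, hs⟩ := regular_hilb_of_bounded k i hi P hP hb
  let N : ℕ := s.sup fun φ => ⌊φ.eval (m : ℚ)⌋.toNat
  let A : X.Modules := Pic13.twistOn k i (Coh.structureModule X) (-m)
  refine ⟨m, N, ∐ fun _ : Fin N => A, fun j => Sigma.ι (fun _ : Fin N => A) j, ⟨coproductIsCoproduct _⟩, fun F hF => ?_⟩
  have hFc := hP F hF
  haveI := hFc.1
  obtain ⟨φ, hφs, hφ⟩ := hs F hF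
  have hpc : Coh.IsCoh ((Scheme.Modules.pushforward i).obj F) :=
    Groth.Agent.QC.isCoh_pushforward_of_isFinite i hFc.2
  have hpr : Curv2.IsMRegular k n ((Scheme.Modules.pushforward i).obj F) m := fun d hd _ => by
    obtain ⟨e⟩ := SerrePn.nonempty_hh_pushTwist k i hi F (CohFinite.isInvertible_twist n k (m - d)) d
    exact e.toEquiv.subsingleton_congr.1 (hm F hF d hd)
  obtain ⟨g, hg, -⟩ := exists_of_reg _ hpc m hpr
  haveI := hg
  have hle : CurveRR.h k (CohB1.tensorMod ((Scheme.Modules.pushforward i).obj F) (Twist.twistProjSpace n k m)) 0 ≤ N := by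
    refine le_trans ?_ (Finset.le_sup (f := fun φ : Polynomial ℚ => ⌊φ.eval (m : ℚ)⌋.toNat) hφs)
    obtain ⟨e⟩ := SerrePn.nonempty_hh_pushTwist k i hi F (CohFinite.isInvertible_twist n k m) 0
    have hz : FGA.eulerCharLE k X (Pic13.twistOn k i F m) n = (CurveRR.h k (Pic13.twistOn k i F m) 0 : ℤ) := by
      rw [FGA.eulerCharLE, Finset.sum_eq_single 0 (fun d _ hd => ?_) (fun h => absurd (by simp) h)]
      · rw [pow_zero, one_mul]
      · haveI : Subsingleton (Coh.HH X (Pic13.twistOn k i F m) d) := by
          obtain ⟨e'⟩ := SerrePn.nonempty_hh_pushTwist k i hi F (CohFinite.isInvertible_twist n k m) d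
          exact e'.toEquiv.subsingleton_congr.2
            (SerrePn.vanish_of_regular _ hpc m hpr d m (Nat.one_le_iff_ne_zero.2 hd) (by omega))
        rw [Module.finrank_zero_of_subsingleton, Nat.cast_zero, mul_zero]
    have h1 := hφ m
    rw [hz] at h1
    rw [← h1, Int.cast_natCast, Int.floor_natCast, Int.toNat_natCast]
    exact (e.symm.finrank_eq).le
  obtain ⟨π, hπ⟩ := exists_epi_pad hle g
  haveI := hπ
  haveI := GrothSS.isIso_counit_push i
  let L := Scheme.Modules.pullback i
  haveI : L.IsLeftAdjoint := (Scheme.Modules.pullbackPushforwardAdjunction i).isLeftAdjoint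
  haveI : PreservesColimit (Discrete.functor fun _ : Fin N => Twist.twistProjSpace n k (-m)) L := inferInstance
  haveI : Epi (L.map π) := inferInstance
  exact ⟨(Sigma.mapIso fun _ : Fin N => TMul.leftUnitIso (L.obj (Twist.twistProjSpace n k (-m)))).hom ≫
    (PreservesCoproduct.iso L fun _ : Fin N => Twist.twistProjSpace n k (-m)).inv ≫ L.map π ≫
      ((asIso (Scheme.Modules.pullbackPushforwardAdjunction i).counit).app F).hom, inferInstance⟩

end Groth.Agent.PicBdd
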