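import Groth.Agent.PicBdd.Union
import Groth.Agent.PicBdd.Universal
import Groth.Agent.PicBdd.Hilb
import Groth.Agent.MumBound.Closed

/-!
Quotients of a coherent module on projective space with given Hilbert polynomial form a bounded family.
-/

set_option autoImplicit false
set_option linter.unusedSectionVars false
set_option linter.style.haveILetI false
set_option backward.isDefEq.respectTransparency false
set_option backward.isDefEq.respectTransparency.types false
set_option maxHeartbeats 1600000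

universe u

open CategoryTheory CategoryTheory.Limits AlgebraicGeometry TopologicalSpace Opposite

noncomputable section

namespace Groth.Agent.PicBdd

open MumBound (tw twm)

variable (k : Type u) [Field k] {n : ℕ}

/-- A large twist of a coherent module is a quotient of a free module. -/
theorem exists_epi_free_tw {E : (CohB1.ProjSpace n k).Modules} (hE : Coh.IsCoh E) :
    ∃ (a : ℤ) (N : ℕ) (q : FlatMod.freeMod (CohB1.ProjSpace n k) N ⟶ tw E a), Epi q := by
  obtain ⟨T, hT⟩ := MumBound.eventually_vanish hE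
  let a : ℤ := ((T + n + 1 : ℕ) : ℤ)
  have hreg : PnReg.Reg E a := fun q hq => by
    rcases le_or_gt q n with h | h
    · exact hT _ (by simp only [a]; omega) q hq
    · exact PnReg.hh_above _ (MumBound.isCoh_tw hE _).1 q h
  have h0 : PnReg.Reg (tw E a) 0 := by simpa using PnReg.reg_twist hreg a
  obtain ⟨φ, hφ, -⟩ := exists_of_reg (tw E a) (MumBound.isCoh_tw hE a) 0 fun q hq _ => h0 q hq
  obtain ⟨j₀⟩ := GrT.nonempty_twist_zero_iso (𝒜 := CohB1.polyGrading n k)
  let j : Twist.twistProjSpace n k (-0) ≅ Coh.structureModule _ :=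
    eqToIso (congrArg (Twist.twistProjSpace n k) neg_zero) ≪≫ j₀
  haveI := hφ
  exact ⟨a, _, (Sigma.mapIso fun _ => j).inv ≫ φ, epi_comp _ _⟩

/-- Twists of twists. -/
theorem euler_tw_tw {F : (CohB1.ProjSpace n k).Modules} (a t : ℤ) :
    Curv2.euler k (CohB1.ProjSpace n k) (tw (tw F a) t) = Curv2.euler k (CohB1.ProjSpace n k) (tw F (a + t)) := by
  obtain ⟨e⟩ := PnReg.nonempty_twistF F a t (a + t) rfl
  exact CurveRR.euler_eq_of_iso e

/-- Quotients of a coherent module with a given Hilbert polynomial form a bounded family. -/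
theorem isBounded_quot_poly [Infinite k] {E : (CohB1.ProjSpace n k).Modules} (hE : Coh.IsCoh E) (φ : Polynomial ℚ) :
    Pic13.IsBounded k (CohB1.ProjSpace n k) (fun F => Coh.IsCoh F ∧ (∃ p : E ⟶ F, Epi p) ∧
      ∀ d : ℤ, (FGA.eulerCharLE k (CohB1.ProjSpace n k) (tw F d) n : ℚ) = φ.eval (d : ℚ)) := by
  haveI : IsNoetherian (CohB1.ProjSpace n k) := CohFinite.isNoetherian_projSpace n k
  haveI : IsProper (CohB1.ProjSpace.toSpec n k) := ProjMor.isProper_toSpec n k
  haveI : IsProper (CohB1.ProjSpace n k ↘ Spec (CommRingCat.of k)) := ‹IsProper (CohB1.ProjSpace.toSpec n k)›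
  obtain ⟨a, N, q, hq⟩ := exists_epi_free_tw k hE
  obtain ⟨M, hM⟩ := MumBound.exists_reg_closed (𝟙 (CohB1.ProjSpace n k)) N
    (φ.comp (Polynomial.X + Polynomial.C (a : ℚ)))
  let P := CohB1.ProjSpace n k
  have hi : 𝟙 P ≫ CohB1.ProjSpace.toSpec n k = P ↘ Spec (CommRingCat.of k) := Category.id_comp _
  refine isBounded_mono k (isBounded_regular k (𝟙 P) hi ((M : ℤ) + a) φ) ?_
  rintro F ⟨hF, ⟨p, hp⟩, hφ⟩
  have hid : ∀ d : ℤ, Nonempty (Pic13.twistOn k (𝟙 P) F d ≅ tw F d) := fun d =>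
    ⟨PicGrp.tensorModIso (Iso.refl _) ((Scheme.Modules.pullbackId P).app _)⟩
  have heul : ∀ d : ℤ, FGA.eulerCharLE k P (tw F d) n = Curv2.euler k P (tw F d) := fun d =>
    (CurveRR.euler_eq_sum (k := k) (tw F d) (n + 1) fun q hq =>
      PnReg.hh_above _ (MumBound.isCoh_tw hF d).1 q (by omega)).symm
  have hsum : ∀ d : ℤ, FGA.eulerCharLE k P (Pic13.twistOn k (𝟙 P) F d) n = FGA.eulerCharLE k P (tw F d) n := fun d => by
    obtain ⟨e⟩ := hid d
    rw [eulerCharLE_twistOn k (𝟙 P) hi hF d, heul, CurveRR.euler_eq_of_iso e]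
  refine ⟨hF, ?_, fun d => by rw [hsum]; exact hφ d⟩
  let G := tw F a
  haveI : Epi (twm p a) := W7Slope.epi_tmap (CohFinite.isInvertible_twist n k a) p
  haveI := hq
  obtain ⟨hG, -⟩ := hM G (q ≫ twm p a) (MumBound.isCoh_tw hF a) (epi_comp _ _) fun t => by
    let w : tw ((Scheme.Modules.pushforward (𝟙 P)).obj G) (t : ℤ) ≅ tw (tw F a) (t : ℤ) :=
      PicGrp.tensorModIso ((Scheme.Modules.pushforwardId P).app G) (Iso.refl _)
    rw [CurveRR.euler_eq_of_iso (k := k) w, euler_tw_tw, Polynomial.eval_comp, Polynomial.eval_add,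
      Polynomial.eval_X, Polynomial.eval_C,
      show ((t : ℚ) + (a : ℚ)) = ((a + t : ℤ) : ℚ) by push_cast; ring, ← hφ, heul]
  intro r hr
  obtain ⟨e⟩ := hid ((M : ℤ) + a - r)
  obtain ⟨e'⟩ := PnReg.nonempty_twistF F a ((M : ℤ) - r) ((M : ℤ) + a - r) (by ring)
  exact CohQC.hh_subsingleton_of_iso
    (PicGrp.tensorModIso ((Scheme.Modules.pushforwardId P).app G) (Iso.refl _) ≪≫ e' ≪≫ e.symm) r (hG r hr)

end Groth.Agent.PicBdd

end
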