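import Groth.Agent.PicBdd.Strata
import Groth.Agent.Nakai.AlgEquiv

/-!
Bounded families of invertible modules meet finitely many algebraic equivalence classes.
-/

set_option autoImplicit false
set_option linter.unusedSectionVars false
set_option linter.style.haveILetI false
set_option backward.isDefEq.respectTransparency false

universe u

open CategoryTheory CategoryTheory.Limits AlgebraicGeometry TopologicalSpace Opposite
open Groth.Agent.Intersect Groth.Agent.Nakai

noncomputable section

namespace Groth.Agent.PicBdd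

attribute [local instance] clMonoid

variable (k : Type u) [Field k] {X : Scheme.{u}} [X.Over (Spec (CommRingCat.of k))]
  [IsProper (X ↘ Spec (CommRingCat.of k))]

/-- A bounded family of invertible modules meets finitely many algebraic equivalence classes. -/
theorem exists_reps (P : X.Modules → Prop) (hP : ∀ L, P L → PicF.IsInvertible L) (hb : Pic13.IsBounded k X P) :
    ∃ (q : ℕ) (A : Fin q → X.Modules), (∀ j, PicF.IsInvertible (A j)) ∧ ∀ L, P L → ∃ (j : Fin q) (N : X.Modules),
      PicF.IsInvertible N ∧ Pic13.IsAlgEquivZero k X N ∧ Nonempty (L ≅ CohB1.tensorMod (A j) N) := by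
  classical
  obtain ⟨ι, hι, S, hinv, hS⟩ := exists_invertible_strata P hP hb
  let κ := {i : ι // ∃ L, (S i).Has L}
  let e := Finite.equivFin κ
  choose t₀ ht₀ hL₀ using fun i : κ => (show ∃ (t : Spec (CommRingCat.of k) ⟶ (S i.1).W) (ht : t ≫ (S i.1).q = 𝟙 _),
    PicF.IsInvertible (Pic13.fibreMod k X (S i.1).q t ht (S i.1).G) from by
      obtain ⟨L, t, ht, -⟩ := i.2
      exact ⟨t, ht, PicLoc.isInvertible_pullback _ (hinv i.1)⟩)
  refine ⟨Nat.card κ, fun j => Pic13.fibreMod k X (S (e.symm j).1).q (t₀ _) (ht₀ _) (S (e.symm j).1).G,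
    fun j => hL₀ _, fun L hL => ?_⟩
  obtain ⟨i, hi⟩ := hS L hL
  let i' : κ := ⟨i, L, hi⟩
  obtain ⟨t, ht, hiso⟩ := hi
  haveI := (S i).lft
  haveI := (S i).qc
  haveI := (S i).integral
  obtain ⟨B', hB', hBB⟩ := W7Hull.exists_tensor_inverse (hL₀ i')
  refine ⟨e i', CohB1.tensorMod L B', TMul.isInvertible_tensorMod (hP L hL) hB', ?_, ?_⟩
  · exact isAlgEquivZero_of_family k (W := (S i).W) (hinv i) t (t₀ i') ht (ht₀ i') hB' hiso ⟨Iso.refl _⟩
      (by rw [cl_tensor]) (cl_inv hBB)
  · refine iso_of_cl ?_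
    dsimp only
    rw [show e.symm (e i') = i' from e.symm_apply_apply i', cl_tensor, cl_tensor, mul_left_comm, cl_inv hBB, mul_one]

/-- Algebraically trivial modules have vanishing degree. -/
theorem degFlat_of_alg {N : X.Modules} (h : Pic13.IsAlgEquivZero k X N) : DegFlat k N :=
  fun F hF _ => by rw [D_one, euler_algEquivZero k h hF, sub_self]

/-- An algebraically trivial twist does not change the numerical class. -/
theorem numEq_tensor_degFlat {A N L : X.Modules} (hA : PicF.IsInvertible A) (hN : DegFlat k N)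
    (h : PicF.cl L = PicF.cl A * PicF.cl N) : NumEq k L A := fun ξ hξ => by
  haveI := CurveRR.isNoetherian_of_proper k X
  have hd : topologicalKrullDim (CohB1.support (Devissage.A ξ)) ≤ ((1 : ℕ) : WithBot ℕ∞) :=
    (dim_mono (Devissage.support_A_subset ξ)).trans hξ.le
  have := hN _ (isCoh_twist k (Devissage.isCoh_A ξ) hA) ((dim_support_twist (Devissage.isCoh_A ξ) _).trans hd)
  rw [D_one, sub_eq_zero] at this
  have h2 : Curv2.euler k X (CohB1.tensorMod (Devissage.A ξ) L) =
      Curv2.euler k X (CohB1.tensorMod (CohB1.tensorMod (Devissage.A ξ) A) N) :=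
    euler_congr k (by simp only [cl_tensor, h, mul_assoc])
  rw [h2]
  exact_mod_cast this.symm

/-- Intersection numbers of the inverses of a bounded family are bounded. -/
theorem intNum_bounded (d : ℕ) (hd : topologicalKrullDim X ≤ d) (P : X.Modules → Prop)
    (hP : ∀ L, P L → PicF.IsInvertible L) (hb : Pic13.IsBounded k X P) {r : ℕ} (hr : topologicalKrullDim X ≤ r)
    (f : X.Modules → Fin r → X.Modules)
    (hf : ∀ A, PicF.IsInvertible A → ∀ i, PicF.IsInvertible (f A i))
    (hcongr : ∀ A A', PicF.IsInvertible A → PicF.IsInvertible A' → NumEq k A A' → ∀ i, NumEq k (f A i) (f A' i)) :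
    ∃ B : ℤ, ∀ L L' : X.Modules, P L → Nonempty (CohB1.tensorMod L L' ≅ Coh.structureModule X) →
      |FGA.intNum k X d (f L') (Coh.structureModule X)| ≤ B := by
  classical
  obtain ⟨q, A, hA, hrep⟩ := exists_reps k P hP hb
  choose A' hA' hAA' using fun j => W7Hull.exists_tensor_inverse (hA j)
  refine ⟨∑ j, |FGA.intNum k X d (f (A' j)) (Coh.structureModule X)|, fun L L' hL hLL' => ?_⟩
  obtain ⟨j, N, hN, halg, ⟨e⟩⟩ := hrep L hL
  obtain ⟨N', hN', hNN'⟩ := W7Hull.exists_tensor_inverse hN
  have hL' := Nakai.isInvertible_inverse (hP L hL) hLL'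
  have h1 : NumEq k L' (A' j) := by
    refine numEq_tensor_degFlat k (hA' j) ((degFlat_of_alg k halg).inverse k hN' hNN') ?_
    have hcl : PicF.cl L = PicF.cl (A j) * PicF.cl N := by
      rw [← cl_tensor]; exact (PicGrp.cl_eq_cl_iff _ _).2 ⟨e⟩
    calc PicF.cl L' = PicF.cl L' * ((PicF.cl (A j) * PicF.cl (A' j)) * (PicF.cl N * PicF.cl N')) := by
          rw [cl_inv (hAA' j), cl_inv hNN', one_mul, mul_one]
      _ = (PicF.cl L * PicF.cl L') * (PicF.cl (A' j) * PicF.cl N') := by rw [hcl]; ac_rfl
      _ = _ := by rw [cl_inv hLL', one_mul]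
  have h2 : (FGA.intNum k X d (f L') (Coh.structureModule X) : ℚ) =
      FGA.intNum k X d (f (A' j)) (Coh.structureModule X) := by
    rw [intNum_eq_alt k d hd, intNum_eq_alt k d hd]
    exact alt_numeric k r _ _ (hf _ hL') (hf _ (hA' j)) (hcongr _ _ hL' (hA' j) h1) _
      (CurveRR.isCoh_of_inv TMul.isInvertible_structureModule) ((topologicalKrullDim_subspace_le X _).trans hr)
  rw [show FGA.intNum k X d (f L') (Coh.structureModule X) = FGA.intNum k X d (f (A' j)) (Coh.structureModule X) by
    exact_mod_cast h2]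
  exact Finset.single_le_sum (f := fun j => |FGA.intNum k X d (f (A' j)) (Coh.structureModule X)|)
    (fun _ _ => abs_nonneg _) (Finset.mem_univ j)

end Groth.Agent.PicBdd
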