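import Groth.Agent.PicBdd.TauBdd
import Groth.Prelude.Def_Pic13

/-!
Finitely many flat strata for a bounded family; invertible members lie in finitely many connected
invertible families.
-/

set_option autoImplicit false
set_option linter.unusedSectionVars false
set_option linter.style.haveILetI false
set_option backward.isDefEq.respectTransparency false

universe u

open CategoryTheory CategoryTheory.Limits AlgebraicGeometry TopologicalSpace Opposite

noncomputable section

namespace Groth.Agent.PicBdd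

variable (k : Type u) [Field k] (X : Scheme.{u}) [X.Over (Spec (CommRingCat.of k))]

/-- An integral parameter scheme of finite type with a coherent module flat over it. -/
structure Stratum where
  W : Scheme.{u}
  q : W ⟶ Spec (CommRingCat.of k)
  integral : IsIntegral W
  lft : LocallyOfFiniteType q
  qc : QuasiCompact q
  G : (Pic13.prodK k X q).Modules
  coh : Coh.IsCoh G
  flat : FlatMod.IsFlatOver (pullback.snd (X ↘ Spec (CommRingCat.of k)) q) G

variable {k X}

/-- `L` occurs as the fibre of the stratum at a rational point. -/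
def Stratum.Has (S : Stratum k X) (L : X.Modules) : Prop :=
  ∃ (t : Spec (CommRingCat.of k) ⟶ S.W) (ht : t ≫ S.q = 𝟙 _),
    Nonempty (Pic13.fibreMod k X S.q t ht S.G ≅ L)

theorem irreducibleSpace_of_range {Z T : Type u} [TopologicalSpace Z] [TopologicalSpace T] {f : Z → T}
    (hf : Topology.IsInducing f) {C : Set T} (hC : IsIrreducible C) (hr : Set.range f = C) :
    IrreducibleSpace Z := by
  have hne : Nonempty Z := by
    obtain ⟨a, ha⟩ := hC.nonempty
    obtain ⟨z, -⟩ := (hr.symm ▸ ha : a ∈ Set.range f)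
    exact ⟨z⟩
  haveI : PreirreducibleSpace Z := ⟨by
    refine fun U V hU hV ⟨a, _, ha⟩ ⟨b, _, hb⟩ => ?_
    obtain ⟨U', hU', rfl⟩ := hf.isOpen_iff.1 hU
    obtain ⟨V', hV', rfl⟩ := hf.isOpen_iff.1 hV
    obtain ⟨c, hc, hc'⟩ := hC.isPreirreducible U' V' hU' hV'
      ⟨f a, hr.subset ⟨a, rfl⟩, ha⟩ ⟨f b, hr.subset ⟨b, rfl⟩, hb⟩
    obtain ⟨w, rfl⟩ := hr.symm.subset hc
    exact ⟨w, trivial, hc'⟩⟩
  exact { toNonempty := hne }

variable [IsProper (X ↘ Spec (CommRingCat.of k))]

variable (k) in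
/-- A coherent family decomposes into finitely many flat ones. -/
theorem exists_flat_strata {T : Scheme.{u}} (q : T ⟶ Spec (CommRingCat.of k)) [LocallyOfFiniteType q]
    [QuasiCompact q] (F : (Pic13.prodK k X q).Modules) (hF : Coh.IsCoh F) :
    ∃ (ι : Type) (_ : Finite ι) (S : ι → Stratum k X),
      ∀ (t : Spec (CommRingCat.of k) ⟶ T) (ht : t ≫ q = 𝟙 _), ∃ i, (S i).Has (Pic13.fibreMod k X q t ht F) := by
  classical
  haveI := CurveRR.isNoetherian_of_proper k X
  haveI : IsLocallyNoetherian T := LocallyOfFiniteType.isLocallyNoetherian q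
  haveI : CompactSpace T := QuasiCompact.compactSpace_of_compactSpace q
  haveI : IsNoetherian T := {}
  let x₀ : ↑(Spec (CommRingCat.of k)) := (⊥ : PrimeSpectrum k)
  suffices h : ∀ C : Closeds T, ∃ (ι : Type) (_ : Finite ι) (S : ι → Stratum k X),
      ∀ (t : Spec (CommRingCat.of k) ⟶ T) (ht : t ≫ q = 𝟙 _), t.base x₀ ∈ (C : Set T) →
        ∃ i, (S i).Has (Pic13.fibreMod k X q t ht F) by
    obtain ⟨ι, hι, S, hS⟩ := h ⟨Set.univ, isClosed_univ⟩
    exact ⟨ι, hι, S, fun t ht => hS t ht trivial⟩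
  intro C
  induction C using (wellFounded_lt (α := Closeds T)).induction with
  | _ C ih =>
  by_cases hne : (C : Set T).Nonempty
  swap
  · exact ⟨Empty, inferInstance, Empty.elim, fun t ht hmem => (hne ⟨_, hmem⟩).elim⟩
  by_cases hirr : IsPreirreducible (C : Set T)
  swap
  · rw [isPreirreducible_iff_isClosed_union_isClosed] at hirr
    simp only [not_forall, exists_prop, not_or] at hirr
    obtain ⟨A, B, hA, hB, hCAB, hCA, hCB⟩ := hirr
    have hlt : ∀ (D : Set T) (hD : IsClosed D), ¬ (C : Set T) ⊆ D →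
        (⟨D ∩ C, hD.inter C.isClosed⟩ : Closeds T) < C := fun D hD hCD =>
      lt_of_le_not_ge Set.inter_subset_right fun hle => hCD fun a ha => (hle ha).1
    obtain ⟨ι₁, hι₁, S₁, h₁⟩ := ih _ (hlt A hA hCA)
    obtain ⟨ι₂, hι₂, S₂, h₂⟩ := ih _ (hlt B hB hCB)
    refine ⟨ι₁ ⊕ ι₂, inferInstance, Sum.elim S₁ S₂, fun t ht hmem => ?_⟩
    rcases hCAB hmem with h | h
    · obtain ⟨i, hi⟩ := h₁ t ht ⟨h, hmem⟩
      exact ⟨Sum.inl i, hi⟩
    · obtain ⟨i, hi⟩ := h₂ t ht ⟨h, hmem⟩
      exact ⟨Sum.inr i, hi⟩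
  have hC : IsIrreducible (C : Set T) := ⟨hne, hirr⟩
  let I := Scheme.IdealSheafData.vanishingIdeal C
  let Z := I.subscheme
  let j : Z ⟶ T := I.subschemeι
  have hjr : Set.range j = (C : Set T) := DvrDom.range_vanishingIdeal_subschemeι C
  haveI : IsReduced Z := DvrDom.isReduced_vanishingIdeal_subscheme C
  haveI : IrreducibleSpace Z := irreducibleSpace_of_range j.isClosedEmbedding.isInducing hC hjr
  haveI : IsIntegral Z := isIntegral_of_irreducibleSpace_of_isReduced Z
  let qZ := j ≫ q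
  let J := prodMap k (X := X) j (q' := qZ) rfl
  let G := (Scheme.Modules.pullback J).obj F
  have hG : Coh.IsCoh G := Groth.Agent.QC.isCoh_pullback J hF
  let π := pullback.snd (X ↘ Spec (CommRingCat.of k)) qZ
  haveI := hG.1
  obtain ⟨V, hVne, hflat⟩ := FlatModBC.exists_opens_flatAt π G hG.2
  haveI : IsNoetherian Z := by
    haveI : CompactSpace Z := QuasiCompact.compactSpace_of_compactSpace qZ
    haveI : IsLocallyNoetherian Z := LocallyOfFiniteType.isLocallyNoetherian qZ
    exact {}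
  haveI : Nonempty V := hVne.to_subtype
  haveI : IsIntegral V := isIntegral_of_isOpenImmersion V.ι
  let qV := V.ι ≫ qZ
  let JV := prodMap k (X := X) V.ι (q' := qV) rfl
  let GV := (Scheme.Modules.pullback JV).obj G
  have hGV : Coh.IsCoh GV := Groth.Agent.QC.isCoh_pullback JV hG
  let πV := pullback.snd (X ↘ Spec (CommRingCat.of k)) qV
  have sq : IsPullback JV πV π V.ι := by
    have h1 : IsPullback (JV ≫ pullback.fst _ _) πV (X ↘ Spec (CommRingCat.of k)) (V.ι ≫ qZ) := by
      rw [show JV ≫ pullback.fst _ _ = pullback.fst _ _ from (pullback.lift_fst _ _ _).trans (Category.comp_id _)]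
      exact IsPullback.of_hasPullback _ _
    exact IsPullback.of_right h1 (pullback.lift_snd _ _ _) (IsPullback.of_hasPullback _ _)
  have hflV : FlatMod.IsFlatOver πV GV := fun z => by
    refine Groth.Agent.FlatModBC.isFlatOverAt_baseChange sq G z (hflat _ ?_)
    rw [show π.base (JV.base z) = V.ι (πV.base z) from congrArg (fun f => f.base z) sq.w]
    exact (πV.base z).2
  let S₀ : Stratum k X := ⟨V, qV, inferInstance, inferInstance, inferInstance, GV, hGV, hflV⟩
  obtain ⟨O, hO, hOV⟩ := j.isClosedEmbedding.isInducing.isOpen_iff.1 V.2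
  have hlt : (⟨(C : Set T) \ O, C.isClosed.sdiff hO⟩ : Closeds T) < C := by
    refine lt_of_le_not_ge Set.diff_subset fun hle => ?_
    obtain ⟨z, hz⟩ := hVne
    exact (hle (hjr.subset ⟨z, rfl⟩ : j z ∈ (C : Set T))).2 (hOV.symm.subset hz)
  obtain ⟨ι, hι, S, hS⟩ := ih _ hlt
  refine ⟨Option ι, inferInstance, fun o => o.elim S₀ S, fun t ht hmem => ?_⟩
  by_cases hO' : t.base x₀ ∈ O
  swap
  · obtain ⟨i, hi⟩ := hS t ht ⟨hmem, hO'⟩
    exact ⟨some i, hi⟩
  refine ⟨none, ?_⟩
  haveI : Subsingleton ↑(Spec (CommRingCat.of k)) := inferInstanceAs (Subsingleton (PrimeSpectrum k))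
  obtain ⟨τ, hτj⟩ := RedSepLib.exists_lift_of_isReduced t j (by
    rintro _ ⟨w, rfl⟩
    rw [hjr, Subsingleton.elim w x₀]
    exact hmem)
  have hr : Set.range τ ⊆ Set.range V.ι := by
    rintro _ ⟨w, rfl⟩
    rw [Scheme.Opens.range_ι, Subsingleton.elim w x₀]
    refine hOV.subset ?_
    show j (τ.base x₀) ∈ O
    rwa [show j (τ.base x₀) = t.base x₀ from congrArg (fun f => f.base x₀) hτj]
  let σ := IsOpenImmersion.lift V.ι τ hr
  have hσ : σ ≫ qV = 𝟙 _ := by
    rw [← Category.assoc, IsOpenImmersion.lift_fac, ← Category.assoc, hτj, ht]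
  refine ⟨σ, hσ, ?_⟩
  have hτ : τ ≫ qZ = 𝟙 _ := by rw [← Category.assoc, hτj, ht]
  obtain ⟨e1⟩ := nonempty_fibreMod_pullback k (q := qZ) V.ι (q' := qV) rfl σ hσ
    (by rw [IsOpenImmersion.lift_fac, hτ]) G
  have e2 : ∀ (τ' : Spec (CommRingCat.of k) ⟶ Z) (hτ' : τ' ≫ qZ = 𝟙 _), τ' = τ →
      Nonempty (Pic13.fibreMod k X qZ τ' hτ' G ≅ Pic13.fibreMod k X q t ht F) := by
    rintro τ' hτ' rfl
    obtain ⟨e⟩ := nonempty_fibreMod_pullback k (q := q) j (q' := qZ) rfl τ' hτ' (by rw [hτj, ht]) F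
    have h' : ∀ (t' : Spec (CommRingCat.of k) ⟶ T) (ht' : t' ≫ q = 𝟙 _), t' = t →
        Nonempty (Pic13.fibreMod k X q t' ht' F ≅ Pic13.fibreMod k X q t ht F) := by
      rintro t' ht' rfl; exact ⟨Iso.refl _⟩
    exact ⟨e ≪≫ (h' _ _ hτj).some⟩
  exact ⟨e1 ≪≫ (e2 _ _ (IsOpenImmersion.lift_fac _ _ _)).some⟩

/-- The invertible members of a bounded family lie in finitely many invertible families over integral bases. -/
theorem exists_invertible_strata (P : X.Modules → Prop) (hP : ∀ L, P L → PicF.IsInvertible L)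
    (hb : Pic13.IsBounded k X P) :
    ∃ (ι : Type) (_ : Finite ι) (S : ι → Stratum k X), (∀ i, PicF.IsInvertible (S i).G) ∧
      ∀ L, P L → ∃ i, (S i).Has L := by
  classical
  obtain ⟨T, q, hlft, hqc, F, hF, hfam⟩ := hb
  haveI := CurveRR.isNoetherian_of_proper k X
  haveI := hlft
  haveI := hqc
  obtain ⟨ι, hι, S, hS⟩ := exists_flat_strata k q F hF
  let x₀ : ↑(Spec (CommRingCat.of k)) := (⊥ : PrimeSpectrum k)
  have hW : ∀ i, ∃ W : (S i).W.Opens, (∀ z : ↥(Pic13.prodK k X (S i).q),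
      (pullback.snd (X ↘ Spec (CommRingCat.of k)) (S i).q).base z ∈ W → Free1 (S i).G z) ∧
      ∀ (t : Spec (CommRingCat.of k) ⟶ (S i).W) (ht : t ≫ (S i).q = 𝟙 _),
        PicF.IsInvertible (Pic13.fibreMod k X (S i).q t ht (S i).G) → t.base x₀ ∈ W := by
    intro i
    haveI := (S i).lft
    haveI : IsLocallyNoetherian (Pic13.prodK k X (S i).q) :=
      LocallyOfFiniteType.isLocallyNoetherian (pullback.fst (X ↘ Spec (CommRingCat.of k)) (S i).q)
    let π := pullback.snd (X ↘ Spec (CommRingCat.of k)) (S i).q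
    refine ⟨⟨(π.base '' {z | Free1 (S i).G z}ᶜ)ᶜ,
      (π.isClosedMap _ (isOpen_free1 (S i).coh).isClosed_compl).isOpen_compl⟩, fun z hz => ?_, fun t ht hinv => ?_⟩
    · by_contra h
      exact hz ⟨z, h, rfl⟩
    · rintro ⟨z, hz, hzt⟩
      exact hz (free1_of_fibreMod k t ht x₀ (S i).coh z hzt ((S i).flat z) hinv)
  choose W hfree hmemW using hW
  let κ := {i : ι // (W i : Set (S i).W).Nonempty}
  have hdata : ∀ i : κ, ∃ S' : Stratum k X, PicF.IsInvertible S'.G ∧
      ∀ L, (S i.1).Has L → PicF.IsInvertible L → S'.Has L := by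
    rintro ⟨i, hi⟩
    haveI := (S i).lft
    haveI := (S i).qc
    haveI := (S i).integral
    haveI : IsLocallyNoetherian (Pic13.prodK k X (S i).q) :=
      LocallyOfFiniteType.isLocallyNoetherian (pullback.fst (X ↘ Spec (CommRingCat.of k)) (S i).q)
    haveI : IsNoetherian (S i).W := by
      haveI : CompactSpace (S i).W := QuasiCompact.compactSpace_of_compactSpace (S i).q
      haveI : IsLocallyNoetherian (S i).W := LocallyOfFiniteType.isLocallyNoetherian (S i).q
      exact {}
    haveI : Nonempty (W i) := hi.to_subtype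
    haveI : IsIntegral (W i) := isIntegral_of_isOpenImmersion (W i).ι
    let qW := (W i).ι ≫ (S i).q
    let J := prodMap k (X := X) (W i).ι (q' := qW) rfl
    let πW := pullback.snd (X ↘ Spec (CommRingCat.of k)) qW
    have hw : J ≫ pullback.snd (X ↘ Spec (CommRingCat.of k)) (S i).q = πW ≫ (W i).ι := pullback.lift_snd _ _ _
    have hM : PicF.IsInvertible ((Scheme.Modules.pullback J).obj (S i).G) :=
      isInvertible_pullback_of_free1 J (S i).coh fun z => hfree i _ (by
        rw [show (pullback.snd (X ↘ Spec (CommRingCat.of k)) (S i).q).base (J.base z) = (W i).ι (πW.base z) from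
          congrArg (fun f => f.base z) hw]
        exact (πW.base z).2)
    refine ⟨⟨W i, qW, inferInstance, inferInstance, inferInstance, _, CurveRR.isCoh_of_inv hM, fun z => ?_⟩, hM, ?_⟩
    · have sq : IsPullback J πW (pullback.snd (X ↘ Spec (CommRingCat.of k)) (S i).q) (W i).ι := by
        have h1 : IsPullback (J ≫ pullback.fst _ _) πW (X ↘ Spec (CommRingCat.of k)) ((W i).ι ≫ (S i).q) := by
          rw [show J ≫ pullback.fst _ _ = pullback.fst _ _ from (pullback.lift_fst _ _ _).trans (Category.comp_id _)]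
          exact IsPullback.of_hasPullback _ _
        exact IsPullback.of_right h1 (pullback.lift_snd _ _ _) (IsPullback.of_hasPullback _ _)
      haveI := (S i).coh.1
      exact Groth.Agent.FlatModBC.isFlatOverAt_baseChange sq (S i).G z ((S i).flat _)
    · rintro L ⟨t, ht, ⟨e⟩⟩ hL
      have hm := hmemW i t ht (isInvertible_iso e.symm hL)
      have hr : Set.range t ⊆ Set.range (W i).ι := by
        rintro _ ⟨w, rfl⟩
        haveI : Subsingleton ↑(Spec (CommRingCat.of k)) := inferInstanceAs (Subsingleton (PrimeSpectrum k))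
        rw [Scheme.Opens.range_ι, Subsingleton.elim w x₀]
        exact hm
      have hσ : IsOpenImmersion.lift (W i).ι t hr ≫ qW = 𝟙 _ := by
        rw [← Category.assoc, IsOpenImmersion.lift_fac, ht]
      refine ⟨_, hσ, ?_⟩
      obtain ⟨e1⟩ := nonempty_fibreMod_pullback k (q := (S i).q) (W i).ι (q' := qW) rfl _ hσ
        (by rw [IsOpenImmersion.lift_fac, ht]) (S i).G
      have h' : ∀ (σ' : Spec (CommRingCat.of k) ⟶ (S i).W) (hσ' : σ' ≫ (S i).q = 𝟙 _), σ' = t →
          Nonempty (Pic13.fibreMod k X (S i).q σ' hσ' (S i).G ≅ L) := by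
        rintro σ' hσ' rfl; exact ⟨e⟩
      exact ⟨e1 ≪≫ (h' _ _ (IsOpenImmersion.lift_fac _ _ _)).some⟩
  choose S' hinv' hS' using hdata
  refine ⟨κ, inferInstance, S', hinv', fun L hL => ?_⟩
  obtain ⟨t, ht, ⟨e⟩⟩ := hfam L hL
  obtain ⟨i, τ, hτ, ⟨e'⟩⟩ := hS t ht
  exact ⟨⟨i, ⟨τ.base x₀, hmemW i τ hτ (isInvertible_iso (e' ≪≫ e).symm (hP L hL))⟩⟩,
    hS' _ L ⟨τ, hτ, ⟨e' ≪≫ e⟩⟩ (hP L hL)⟩

end Groth.Agent.PicBdd
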